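import Groth.Agent.FBase64.AssFibre.NoEmb
import Groth.Agent.E4O.FibreDim

/-! Dimensions of the associated cycles of the fibres near the generic point. -/

set_option autoImplicit false
set_option linter.style.haveILetI false
set_option backward.isDefEq.respectTransparency false
universe u

open CategoryTheory CategoryTheory.Limits AlgebraicGeometry TensorProduct Topology
open Groth.Agent.Div89 Groth.Agent.FBase64.AssSheaf Groth.Agent.FBase64.AssTensor
open Groth.Agent.FBase64.RedField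

namespace Groth.Agent.FBase64.AssFibre

attribute [local instance] Algebra.TensorProduct.rightAlgebra

/-- The dimension of a quotient by a prime as the dimension of a piece of a space. -/
theorem ringKrullDim_quotient_eq_of_isEmbedding {R : Type u} [CommRing R] {Z : Type u} [TopologicalSpace Z]
    (e : PrimeSpectrum R → Z) (he : IsEmbedding e) (Q : PrimeSpectrum R) :
    ringKrullDim (R ⧸ Q.asIdeal) = topologicalKrullDim ↥(closure {e Q} ∩ Set.range e) := by
  rw [← E4O.dim_preimage_of_isEmbedding he, show e ⁻¹' closure {e Q} = closure {Q} by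
    rw [he.isInducing.closure_eq_preimage_closure_image, Set.image_singleton],
    ← PrimeSpectrum.topologicalKrullDim_eq_ringKrullDim]
  let c : PrimeSpectrum (R ⧸ Q.asIdeal) → PrimeSpectrum R := PrimeSpectrum.comap (Ideal.Quotient.mk Q.asIdeal)
  have hc : IsClosedEmbedding c :=
    PrimeSpectrum.isClosedEmbedding_comap_of_surjective _ _ Ideal.Quotient.mk_surjective
  have hrange : Set.range c = closure {Q} := by
    rw [range_comap_of_surjective _ _ Ideal.Quotient.mk_surjective, Ideal.mk_ker, PrimeSpectrum.closure_singleton]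
  rw [← hrange]
  exact IsHomeomorph.topologicalKrullDim_eq _ hc.isEmbedding.toHomeomorph.isHomeomorph

variable {X S : Scheme.{u}} (f : X ⟶ S)

theorem ringKrullDim_fibre_quotient [LocallyOfFiniteType f] {W : S.Opens} (hW : IsAffineOpen W) {V : X.Opens}
    (hV : IsAffineOpen V) (e : V ≤ f ⁻¹ᵁ W) (r : PrimeSpectrum Γ(S, W)) (s : S) (hs : hW.fromSpec r = s)
    (y : X) (hy : y ∈ V) (hys : f y = s) :
    letI := (f.appLE W V e).hom.toAlgebra
    ∀ Q : Ideal (r.asIdeal.Fiber Γ(X, V)), Q.IsPrime →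
      Q.comap (inc r.asIdeal.ResidueField) = primeAt (⟨V, hV⟩ : X.affineOpens) y hy →
      ringKrullDim ((r.asIdeal.Fiber Γ(X, V)) ⧸ Q) = (E4O.fdeg f y : ℕ) := by
  letI := (f.appLE W V e).hom.toAlgebra
  intro Q hQ hQy
  let h := PrimeSpectrum.preimageHomeomorphFiber Γ(S, W) Γ(X, V) r
  let ι : PrimeSpectrum (r.asIdeal.Fiber Γ(X, V)) → X := fun t => hV.fromSpec (h.symm t).1
  have hι : IsEmbedding ι := hV.fromSpec.isOpenEmbedding.isEmbedding.comp
    (IsEmbedding.subtypeVal.comp h.symm.isEmbedding)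
  have hιQ : ι ⟨Q, hQ⟩ = y :=
    (congrArg hV.fromSpec (PrimeSpectrum.ext hQy)).trans (hV.fromSpec_primeIdealOf ⟨y, hy⟩)
  have hfs : ∀ q : PrimeSpectrum Γ(X, V),
      f (hV.fromSpec q) = hW.fromSpec (PrimeSpectrum.comap (algebraMap Γ(S, W) Γ(X, V)) q) := fun q =>
    (congrArg (fun k : Spec Γ(X, V) ⟶ S => k.base q) (IsAffineOpen.SpecMap_appLE_fromSpec f hW hV e)).symm
  have hrange : Set.range ι = (V : Set X) ∩ f ⁻¹' {f y} := by
    rw [hys]
    refine Set.Subset.antisymm ?_ ?_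
    · rintro _ ⟨t, rfl⟩
      refine ⟨hV.range_fromSpec.le (Set.mem_range_self _), ?_⟩
      show f (hV.fromSpec _) = s
      rw [hfs, show PrimeSpectrum.comap (algebraMap Γ(S, W) Γ(X, V)) (h.symm t).1 = r from (h.symm t).2, hs]
    · rintro z ⟨hz, hzs⟩
      obtain ⟨q, rfl⟩ := hV.range_fromSpec.ge hz
      have hq : PrimeSpectrum.comap (algebraMap Γ(S, W) Γ(X, V)) q = r :=
        hW.fromSpec.isOpenEmbedding.injective (by rw [← hfs, hs]; exact hzs)
      exact ⟨h ⟨q, hq⟩, congrArg (fun w => hV.fromSpec (Subtype.val w)) (h.symm_apply_apply ⟨q, hq⟩)⟩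
  rw [ringKrullDim_quotient_eq_of_isEmbedding ι hι ⟨Q, hQ⟩, hιQ, hrange,
    ← E4O.dim_open_inter_fibreClosure (f := f) y V.isOpen hy]
  exact E4O.dim_set_congr (by ac_rfl)

theorem dim_closure_fiber [LocallyOfFiniteType f] (s : S) (z : f.fiber s) :
    topologicalKrullDim ↥(closure ({z} : Set ↥(f.fiber s))) = (E4O.fdeg f (f.fiberι s z) : ℕ) := by
  have hi := (f.fiberι s).isEmbedding
  rw [hi.isInducing.closure_eq_preimage_closure_image, Set.image_singleton, E4O.dim_preimage_of_isEmbedding hi,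
    f.range_fiberι, ← E4O.dim_fibreClosure (f := f), fiberι_over]

theorem exists_nhd_fdeg [IsIntegral S] [IsNoetherian S] [LocallyOfFiniteType f] [QuasiCompact f] (F : X.Modules)
    (hF : Coh.IsCoh F) :
    ∃ U : S.Opens, genericPoint S ∈ U ∧ ∀ s ∈ U, ∀ x ∈ genAss f F, ∀ y, MinOver f s x y →
      E4O.fdeg f y = E4O.fdeg f x := by
  classical
  haveI : Coh.IsQCoh F := hF.1
  obtain ⟨_, ⟨W, hW, rfl⟩, hη, -⟩ :=
    S.isBasis_affineOpens.exists_subset_of_mem_open (Set.mem_univ (genericPoint S)) isOpen_univ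
  haveI : Nonempty W := ⟨⟨_, hη⟩⟩
  have hc : IsCompact ((f ⁻¹ᵁ W : X.Opens) : Set X) :=
    QuasiCompact.isCompact_preimage (f := f) (W : Set S) W.2 hW.isCompact
  obtain ⟨T, hT⟩ := hc.elim_finite_subcover (fun V : {V : X.affineOpens // V.1 ≤ f ⁻¹ᵁ W} => (V.1.1 : Set X))
    (fun V => V.1.1.2) fun x hx => by
      obtain ⟨_, ⟨V, hV, rfl⟩, hxV, hle⟩ := X.isBasis_affineOpens.exists_subset_of_mem_open hx (f ⁻¹ᵁ W).2
      exact Set.mem_iUnion.mpr ⟨⟨⟨V, hV⟩, hle⟩, hxV⟩
  choose a d ha H using fun V : {V : X.affineOpens // V.1 ≤ f ⁻¹ᵁ W} =>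
    exists_affine_good f F hF hW hη V.1.2 V.2
  refine ⟨S.basicOpen (∏ V ∈ T, a V), ?_, fun s hs x hx y hy => ?_⟩
  · rw [mem_basicOpen_iff_notMem ⟨W, hW⟩ _ hη, primeAt_genericPoint ⟨W, hW⟩ hη, Ideal.mem_bot]
    exact Finset.prod_ne_zero_iff.mpr fun V _ => ha V
  · have hsW : s ∈ W := S.basicOpen_le _ hs
    rw [mem_basicOpen_iff_notMem ⟨W, hW⟩ _ hsW] at hs
    obtain ⟨V, hV, hyV⟩ : ∃ V ∈ T, y ∈ V.1.1 := by simpa using hT (show f y ∈ W from hy.1.symm ▸ hsW)
    have hxV := mem_affine_of_specializes hy.2.1 hyV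
    letI := (f.appLE W V.1.1 V.2).hom.toAlgebra
    have key : ∀ (t : S) (ht : t ∈ W), a V ∉ primeAt (⟨W, hW⟩ : S.affineOpens) t ht →
        ∀ w (hw : w ∈ V.1.1), MinOver f t x w → (E4O.fdeg f w : WithBot ℕ∞) = (d V x : ℕ) := by
      intro t ht hat w hw hmw
      let q : PrimeSpectrum.comap (algebraMap Γ(S, W) Γ(X, V.1.1)) ⁻¹' {hW.primeIdealOf ⟨t, ht⟩} :=
        ⟨V.1.2.primeIdealOf ⟨w, hw⟩, PrimeSpectrum.ext (by
          obtain ⟨rfl, -, -⟩ := hmw
          exact comap_primeAt f ⟨W, hW⟩ V.1 V.2 w hw)⟩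
      let Q := PrimeSpectrum.preimageOrderIsoFiber Γ(S, W) Γ(X, V.1.1) (hW.primeIdealOf ⟨t, ht⟩) q
      have hQ : Q.asIdeal.comap (inc (hW.primeIdealOf ⟨t, ht⟩).asIdeal.ResidueField) = primeAt V.1 w hw :=
        congrArg (fun w => (Subtype.val w).asIdeal)
          ((PrimeSpectrum.preimageOrderIsoFiber Γ(S, W) Γ(X, V.1.1) (hW.primeIdealOf ⟨t, ht⟩)).symm_apply_apply q)
      rw [← (H V t ht hat).2.2.2 x hx w hw hmw Q.asIdeal Q.isPrime hQ]
      exact (ringKrullDim_fibre_quotient f hW V.1.2 V.2 _ t (hW.fromSpec_primeIdealOf ⟨t, ht⟩) w hw hmw.1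
        Q.asIdeal Q.isPrime hQ).symm
    have h1 := key s hsW (fun h => hs (Ideal.mem_of_dvd _ (Finset.dvd_prod_of_mem a hV) h)) y hyV hy
    have h2 := key (genericPoint S) hη (by
      rw [primeAt_genericPoint ⟨W, hW⟩ hη, Ideal.mem_bot]; exact ha V) x hxV ((minOver_generic f F hx).mpr rfl)
    exact_mod_cast h1.trans h2.symm

end Groth.Agent.FBase64.AssFibre
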