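import Groth.Agent.FBase64.AssFibre.DimField
import Groth.Agent.QC70.CohOps
import Mathlib.AlgebraicGeometry.Morphisms.UniversallyOpen

/-! Constructibility of the dimensions of the associated cycles of the fibres. -/

set_option autoImplicit false
set_option linter.style.haveILetI false
set_option backward.isDefEq.respectTransparency false
universe u

open CategoryTheory CategoryTheory.Limits AlgebraicGeometry TensorProduct Topology
open Groth.Agent.Div89 Groth.Agent.FBase64.AssSheaf Groth.Agent.FBase64.AssTensor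
open Groth.Agent.FBase64.RedField

namespace Groth.Agent.FBase64.AssFibre

/-- The dimensions of the associated cycles of a module. -/
def assDims {Y : Scheme.{u}} (F : Y.Modules) : Set (WithBot ℕ∞) :=
  (fun z : Y => topologicalKrullDim ↥(closure ({z} : Set Y))) '' AssSch.Ass F

/-- The maximal associated points. -/
def maxAss {Y : Scheme.{u}} (F : Y.Modules) : Set Y :=
  {z | z ∈ AssSch.Ass F ∧ ∀ y ∈ AssSch.Ass F, y ⤳ z → y = z}

/-- The dimensions of the maximal associated cycles of a module. -/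
def maxAssDims {Y : Scheme.{u}} (F : Y.Modules) : Set (WithBot ℕ∞) :=
  (fun z : Y => topologicalKrullDim ↥(closure ({z} : Set Y))) '' maxAss F

theorem dim_closure_onePoint {Y T : Scheme.{u}} (g : Y ⟶ T) [Subsingleton T] [LocallyOfFiniteType g] (z : Y) :
    topologicalKrullDim ↥(closure ({z} : Set Y)) = (E4O.fdeg g z : ℕ) := by
  rw [← E4O.dim_fibreClosure (f := g) z,
    show g ⁻¹' {g z} = Set.univ from Set.eq_univ_of_forall fun w => Subsingleton.elim _ _, Set.inter_univ]

/-- The effect of an extension of the base field on the associated points. -/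
theorem ass_fieldExt {Y Y' T T' : Scheme.{u}} (g : Y ⟶ T) (g' : Y' ⟶ T') (e : Y' ⟶ Y) (h : T' ⟶ T)
    [IsIntegral T] [Subsingleton T] [IsIntegral T'] [Subsingleton T'] [LocallyOfFiniteType g]
    (hsq : IsPullback e g' g h) (F : Y.Modules) (F' : Y'.Modules) (hF : Coh.IsCoh F)
    (iso : F' ≅ (Scheme.Modules.pullback e).obj F) :
    (∀ z ∈ AssSch.Ass F', e z ∈ AssSch.Ass F ∧
      topologicalKrullDim ↥(closure ({z} : Set Y')) = topologicalKrullDim ↥(closure ({e z} : Set Y))) ∧
    (∀ y ∈ AssSch.Ass F, ∃ z ∈ AssSch.Ass F', e z = y) ∧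
    (∀ z ∈ AssSch.Ass F', (z ∈ maxAss F' ↔ e z ∈ maxAss F)) := by
  obtain ⟨t⟩ : Nonempty T := inferInstance
  obtain ⟨t'⟩ : Nonempty T' := inferInstance
  haveI := ConsProp93.isIso_fromSpecResidueField T t
  haveI := ConsProp93.isIso_fromSpecResidueField T' t'
  haveI : IsLocallyNoetherian T := isLocallyNoetherian_of_isOpenImmersion (inv (T.fromSpecResidueField t))
  haveI : IsLocallyNoetherian T' := isLocallyNoetherian_of_isOpenImmersion (inv (T'.fromSpecResidueField t'))
  haveI : LocallyOfFiniteType g' := MorphismProperty.of_isPullback hsq ‹_›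
  haveI := LocallyOfFiniteType.isLocallyNoetherian g
  haveI := LocallyOfFiniteType.isLocallyNoetherian g'
  haveI : Flat h := by
    let φ := Spec.preimage (T'.fromSpecResidueField t' ≫ h ≫ inv (T.fromSpecResidueField t))
    have hφ : h = inv (T'.fromSpecResidueField t') ≫ Spec.map φ ≫ T.fromSpecResidueField t := by
      simp [φ, Spec.map_preimage]
    haveI : Flat (Spec.map φ) := by
      rw [HasRingHomProperty.Spec_iff (P := @Flat)]
      letI : Algebra (T.residueField t) (T'.residueField t') := φ.hom.toAlgebra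
      exact RingHom.flat_algebraMap_iff.mpr inferInstance
    rw [hφ]; infer_instance
  haveI : Surjective h := ConsProp93.surjective_of_subsingleton h
  haveI : Flat e := MorphismProperty.of_isPullback hsq.flip ‹_›
  haveI : Surjective e := MorphismProperty.of_isPullback hsq.flip ‹_›
  have hfib : ∀ y : Y, AssSch.NoEmbedded (Coh.structureModule (e.fiber y)) := by
    intro y
    let j : e.fiber y ≅ pullback (Y.fromSpecResidueField y ≫ g) (T'.fromSpecResidueField t' ≫ h) := by
      refine (pullbackSymmetry _ _) ≪≫ ?_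
      exact ((IsPullback.of_hasPullback (Y.fromSpecResidueField y) e).paste_vert hsq |>.isoPullback) ≪≫
        (asIso (pullback.map _ _ (Y.fromSpecResidueField y ≫ g) h (𝟙 _) (T'.fromSpecResidueField t') (𝟙 _)
          (by simp) (by simp))).symm
    intro a ha b hb hsp
    have h1 := noEmbedded_residueProduct hsq y t' (j.hom a) ((mem_ass_structure_iso j.hom a).mp ha)
      (j.hom b) ((mem_ass_structure_iso j.hom b).mp hb) (hsp.map j.hom.continuous)
    exact j.hom.isEmbedding.injective h1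
  have hass : ∀ z, z ∈ AssSch.Ass F' ↔
      e z ∈ AssSch.Ass F ∧ ∃ a ∈ AssSch.Ass (Coh.structureModule (e.fiber (e z))), e.fiberι (e z) a = z := by
    intro z
    rw [ass_iso iso, mem_ass_pullback_flat e F hF.1]
  have hlift : ∀ w : Y', e w ∈ AssSch.Ass F → ∃ v ∈ AssSch.Ass F', v ⤳ w ∧ e v = e w := by
    intro w hw
    obtain ⟨b, hb⟩ := exists_fiber_pt e (rfl : e w = e w)
    obtain ⟨a, ha, hab⟩ := exists_ass_specializes_structure b
    refine ⟨e.fiberι (e w) a, (hass _).mpr ?_, ((fiberι_specializes e _).mpr hab).trans (specializes_of_eq hb), fiberι_over e _ a⟩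
    rw [fiberι_over]
    exact ⟨hw, a, ha, rfl⟩
  have hmaxfib : ∀ z ∈ AssSch.Ass F', ∀ w : Y', e z ⤳ e w → w ⤳ z → w = z := by
    intro z hz w hzw hwz
    have he : e w = e z := ((hwz.map e.continuous).antisymm hzw).eq
    obtain ⟨-, a, ha, haz⟩ := (hass z).mp hz
    obtain ⟨b, rfl⟩ := exists_fiber_pt e he
    have hba : b ⤳ a := (fiberι_specializes e _).mp (by rw [haz]; exact hwz)
    obtain ⟨c, hc, hcb⟩ := exists_ass_specializes_structure b
    obtain rfl := hfib _ a ha c hc (hcb.trans hba)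
    exact (congrArg _ (hba.antisymm hcb).eq).trans haz
  refine ⟨fun z hz => ⟨((hass z).mp hz).1, ?_⟩, fun y hy => ?_, fun z hz => ⟨fun hmax => ?_, fun hmax => ?_⟩⟩
  · rw [dim_closure_onePoint g', dim_closure_onePoint g, fdeg_eq_of_isPullback hsq z (hmaxfib z hz)]
  · obtain ⟨w, rfl⟩ := e.surjective y
    obtain ⟨v, hv, -, hve⟩ := hlift w hy
    exact ⟨v, hv, hve⟩
  · refine ⟨((hass z).mp hz).1, fun y' hy' hsp => ?_⟩
    obtain ⟨w, hwz, rfl⟩ := Flat.generalizingMap (f := e) hsp
    obtain ⟨v, hv, hvw, hve⟩ := hlift w hy'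
    rw [← hve, hmax.2 v hv (hvw.trans hwz)]
  · refine ⟨hz, fun w hw hwz => hmaxfib z hz w ?_ hwz⟩
    rw [hmax.2 _ ((hass w).mp hw).1 (hwz.map e.continuous)]

theorem isFieldStableMod_assDims (Φ : Set (WithBot ℕ∞)) :
    ConsProp.IsFieldStableMod.{u} (fun Y _ _ F => assDims (Y := Y) F = Φ) := by
  intro Y Y' T T' g g' e h _ _ _ _ _ _ hsq F F' hF iso
  obtain ⟨h1, h2, -⟩ := ass_fieldExt g g' e h hsq F F' hF iso
  refine Eq.congr_left (Set.ext fun d => ⟨?_, ?_⟩)
  · rintro ⟨y, hy, rfl⟩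
    obtain ⟨z, hz, rfl⟩ := h2 y hy
    exact ⟨z, hz, (h1 z hz).2⟩
  · rintro ⟨z, hz, rfl⟩
    exact ⟨e z, (h1 z hz).1, (h1 z hz).2.symm⟩

theorem isFieldStableMod_maxAssDims (Φ : Set (WithBot ℕ∞)) :
    ConsProp.IsFieldStableMod.{u} (fun Y _ _ F => maxAssDims (Y := Y) F = Φ) := by
  intro Y Y' T T' g g' e h _ _ _ _ _ _ hsq F F' hF iso
  obtain ⟨h1, h2, h3⟩ := ass_fieldExt g g' e h hsq F F' hF iso
  refine Eq.congr_left (Set.ext fun d => ⟨?_, ?_⟩)
  · rintro ⟨y, hy, rfl⟩
    obtain ⟨z, hz, rfl⟩ := h2 y hy.1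
    exact ⟨z, (h3 z hz).mpr hy, (h1 z hz).2⟩
  · rintro ⟨z, hz, rfl⟩
    exact ⟨e z, (h3 z hz.1).mp hz, (h1 z hz.1).2.symm⟩

theorem exists_nhd_dims {X S : Scheme.{u}} [IsIntegral S] [IsNoetherian S] (f : X ⟶ S) [LocallyOfFiniteType f]
    [QuasiCompact f] (F : X.Modules) (hF : Coh.IsCoh F) :
    ∃ U : S.Opens, genericPoint S ∈ U ∧ ∃ (D D' : Set (WithBot ℕ∞)), ∀ s ∈ U,
      assDims ((Scheme.Modules.pullback (f.fiberι s)).obj F) = D ∧
        maxAssDims ((Scheme.Modules.pullback (f.fiberι s)).obj F) = D' := by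
  obtain ⟨U, hU, -, h⟩ := exists_nhd_ass f F hF
  obtain ⟨U', hU', h'⟩ := exists_nhd_fdeg f F hF
  refine ⟨U ⊓ U', ⟨hU, hU'⟩, (fun x => ((E4O.fdeg f x : ℕ) : WithBot ℕ∞)) '' genAss f F,
    (fun x => ((E4O.fdeg f x : ℕ) : WithBot ℕ∞)) '' {x | x ∈ genAss f F ∧ ∀ x' ∈ genAss f F, x' ⤳ x → x' = x},
    fun s hs => ?_⟩
  obtain ⟨hA, hex, -, hmax⟩ := h s hs.1
  have hmax' : ∀ z : f.fiber s, z ∈ maxAss ((Scheme.Modules.pullback (f.fiberι s)).obj F) ↔
      f.fiberι s z ∈ assFib f F s ∧ ∀ w ∈ assFib f F s, w ⤳ f.fiberι s z → w = f.fiberι s z := by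
    intro z
    rw [mem_assFib_iff]
    refine and_congr Iff.rfl ⟨?_, ?_⟩
    · rintro hz _ ⟨w, hw, rfl⟩ hsp
      rw [hz w hw ((fiberι_specializes f s).mp hsp)]
    · intro hz w hw hsp
      exact (f.fiberι s).isEmbedding.injective (hz _ ⟨w, hw, rfl⟩ ((fiberι_specializes f s).mpr hsp))
  constructor
  · ext d
    constructor
    · rintro ⟨z, hz, rfl⟩
      obtain ⟨x, hx, hxz⟩ := (hA _ (fiberι_over f s z)).mp ((mem_assFib_iff f F s z).mpr hz)
      exact ⟨x, hx, by dsimp only; rw [dim_closure_fiber, h' s hs.2 x hx _ hxz]⟩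
    · rintro ⟨x, hx, rfl⟩
      obtain ⟨y, hy⟩ := hex x hx
      obtain ⟨z, rfl⟩ := exists_fiber_pt f hy.1
      exact ⟨z, (mem_assFib_iff f F s z).mp ((hA _ hy.1).mpr ⟨x, hx, hy⟩),
        by dsimp only; rw [dim_closure_fiber, h' s hs.2 x hx _ hy]⟩
  · ext d
    constructor
    · rintro ⟨z, hz, rfl⟩
      obtain ⟨hz1, hz2⟩ := (hmax' z).mp hz
      obtain ⟨x, hx, hxz⟩ := (hA _ (fiberι_over f s z)).mp hz1
      exact ⟨x, ⟨hx, (hmax x hx _ hxz).mp hz2⟩, by dsimp only; rw [dim_closure_fiber, h' s hs.2 x hx _ hxz]⟩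
    · rintro ⟨x, ⟨hx, hxm⟩, rfl⟩
      obtain ⟨y, hy⟩ := hex x hx
      obtain ⟨z, rfl⟩ := exists_fiber_pt f hy.1
      exact ⟨z, (hmax' z).mpr ⟨(hA _ hy.1).mpr ⟨x, hx, hy⟩, (hmax x hx _ hy).mpr hxm⟩,
        by dsimp only; rw [dim_closure_fiber, h' s hs.2 x hx _ hy]⟩

theorem isConsMod_assDims (Φ : Set (WithBot ℕ∞)) :
    ConsProp.IsConsMod.{u} (fun Y _ _ F => assDims (Y := Y) F = Φ) := by
  refine ⟨isFieldStableMod_assDims Φ, fun X S f _ _ _ _ F hF => ?_⟩
  obtain ⟨U, hU, D, D', h⟩ := exists_nhd_dims f F hF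
  by_cases hD : D = Φ
  · exact .inl ⟨_, interior_maximal (fun s hs => (h s hs).1.trans hD) U.2 hU⟩
  · exact .inr ⟨_, interior_maximal (fun s hs he => hD ((h s hs).1.symm.trans he)) U.2 hU⟩

theorem isConsMod_maxAssDims (Φ : Set (WithBot ℕ∞)) :
    ConsProp.IsConsMod.{u} (fun Y _ _ F => maxAssDims (Y := Y) F = Φ) := by
  refine ⟨isFieldStableMod_maxAssDims Φ, fun X S f _ _ _ _ F hF => ?_⟩
  obtain ⟨U, hU, D, D', h⟩ := exists_nhd_dims f F hF
  by_cases hD : D' = Φ
  · exact .inl ⟨_, interior_maximal (fun s hs => (h s hs).2.trans hD) U.2 hU⟩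
  · exact .inr ⟨_, interior_maximal (fun s hs he => hD ((h s hs).2.symm.trans he)) U.2 hU⟩

/-- The irreducible components of the support are the maximal associated cycles. -/
theorem supportDims_eq {Y : Scheme.{u}} [IsLocallyNoetherian Y] (F : Y.Modules) (hq : Coh.IsQCoh F)
    (hcl : IsClosed (CohB1.support F)) :
    (fun Z : Set ↥(CohB1.support F) => topologicalKrullDim ↥Z) '' irreducibleComponents ↥(CohB1.support F) =
      maxAssDims F := by
  have hsupp : ∀ z ∈ AssSch.Ass F, z ∈ CohB1.support F := fun z hz =>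
    not_subsingleton_iff_nontrivial.mpr (nontrivial_stalk_of_mem_ass F z hz)
  have hsub : ∀ z ∈ CohB1.support F, closure {z} ⊆ CohB1.support F := fun z hz =>
    closure_minimal (Set.singleton_subset_iff.mpr hz) hcl
  have hdim : ∀ z ∈ CohB1.support F, topologicalKrullDim ↥(Subtype.val ⁻¹' closure {z} : Set ↥(CohB1.support F)) =
      topologicalKrullDim ↥(closure ({z} : Set Y)) := fun z hz => by
    rw [E4O.dim_preimage_of_isEmbedding IsEmbedding.subtypeVal, Subtype.range_coe]
    exact E4O.dim_set_congr (Set.inter_eq_left.mpr (hsub z hz))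
  have hcomp : ∀ T : Set ↥(CohB1.support F), T ∈ irreducibleComponents ↥(CohB1.support F) ↔
      ∃ z ∈ maxAss F, T = Subtype.val ⁻¹' closure {z} := by
    have hirr : ∀ z ∈ CohB1.support F, IsIrreducible (Subtype.val ⁻¹' closure {z} : Set ↥(CohB1.support F)) :=
      fun z hz => by
        have : (Subtype.val ⁻¹' closure {z} : Set ↥(CohB1.support F)) = closure {⟨z, hz⟩} := by
          rw [IsInducing.subtypeVal.closure_eq_preimage_closure_image, Set.image_singleton]
        rw [this]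
        exact isIrreducible_singleton.closure
    have hgen : ∀ T : Set ↥(CohB1.support F), IsIrreducible T → IsClosed T →
        ∃ z ∈ AssSch.Ass F, T ⊆ Subtype.val ⁻¹' closure {z} := by
      intro T hT hTc
      obtain ⟨ξ, hξ⟩ := QuasiSober.sober ((hT.image _ continuous_subtype_val.continuousOn).closure)
        isClosed_closure
      have hξF : ξ ∈ CohB1.support F :=
        (closure_minimal (Subtype.coe_image_subset _ T) hcl) (hξ.mem)
      obtain ⟨z, hz, hzξ⟩ := exists_ass_specializes F hq ξ (not_subsingleton_iff_nontrivial.mp hξF)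
      refine ⟨z, hz, fun t ht => ?_⟩
      exact specializes_iff_mem_closure.mp
        (hzξ.trans (hξ.specializes (subset_closure (Set.mem_image_of_mem _ ht))))
    intro T
    constructor
    · intro hT
      obtain ⟨z, hz, hle⟩ := hgen T hT.1 (isClosed_of_mem_irreducibleComponents T hT)
      have heq : T = Subtype.val ⁻¹' closure {z} := hle.antisymm (hT.2 (hirr z (hsupp z hz)) hle)
      refine ⟨z, ⟨hz, fun w hw hwz => ?_⟩, heq⟩
      have : Subtype.val ⁻¹' closure {w} ⊆ T :=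
        hT.2 (hirr w (hsupp w hw)) (fun t ht => specializes_iff_mem_closure.mp
          (hwz.trans (specializes_iff_mem_closure.mpr ((heq ▸ ht : t ∈ Subtype.val ⁻¹' closure {z})))))
      rw [heq] at this
      have h2 : z ⤳ w := specializes_iff_mem_closure.mpr (this (show (⟨w, hsupp w hw⟩ : ↥(CohB1.support F)) ∈
        Subtype.val ⁻¹' closure {w} from subset_closure rfl))
      exact (hwz.antisymm h2).eq
    · rintro ⟨z, ⟨hz, hmax⟩, rfl⟩
      refine ⟨hirr z (hsupp z hz), fun T hT hle => ?_⟩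
      obtain ⟨w, hw, hTw⟩ := hgen (closure T) hT.closure isClosed_closure
      have hwz : w ⤳ z := specializes_iff_mem_closure.mpr (hTw (subset_closure
        (hle (show (⟨z, hsupp z hz⟩ : ↥(CohB1.support F)) ∈ Subtype.val ⁻¹' closure {z} from subset_closure rfl))))
      obtain rfl := hmax w hw hwz
      exact subset_closure.trans hTw
  ext d
  constructor
  · rintro ⟨T, hT, rfl⟩
    obtain ⟨z, hz, rfl⟩ := (hcomp T).mp hT
    exact ⟨z, hz, (hdim z (hsupp z hz.1)).symm⟩
  · rintro ⟨z, hz, rfl⟩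
    exact ⟨_, (hcomp _).mpr ⟨z, hz, rfl⟩, hdim z (hsupp z hz.1)⟩

end Groth.Agent.FBase64.AssFibre
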