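import Groth.Agent.FBase64.AssFibre.Dim
import Mathlib.AlgebraicGeometry.Pullbacks

/-! The dimension of the closure of a point and of a maximal point above it after a field extension. -/

set_option autoImplicit false
set_option linter.style.haveILetI false
set_option backward.isDefEq.respectTransparency false
universe u

open CategoryTheory CategoryTheory.Limits AlgebraicGeometry TensorProduct Topology
open Groth.Agent.Div89 Groth.Agent.FBase64.AssSheaf Groth.Agent.FBase64.AssTensor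

namespace Groth.Agent.FBase64.AssFibre

attribute [local instance] Algebra.TensorProduct.rightAlgebra

theorem isAffine_onePoint (T : Scheme.{u}) [IsIntegral T] [Subsingleton T] : IsAffine T := by
  obtain ⟨t⟩ : Nonempty T := inferInstance
  have := ConsProp93.isIso_fromSpecResidueField T t
  exact IsAffine.of_isIso (inv (T.fromSpecResidueField t))

theorem isField_onePoint (T : Scheme.{u}) [IsIntegral T] [Subsingleton T] : IsField Γ(T, ⊤) := by
  obtain ⟨t⟩ : Nonempty T := inferInstance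
  have := ConsProp93.isIso_fromSpecResidueField T t
  let e : Γ(T, ⊤) ≃+* T.residueField t :=
    ((asIso ((T.fromSpecResidueField t).appTop)) ≪≫ Scheme.ΓSpecIso _).commRingCatIsoToRingEquiv
  exact MulEquiv.isField (Field.toIsField _) e.toMulEquiv

theorem fdeg_eq_of_isPullback {Y Y' T T' : Scheme.{u}} {g : Y ⟶ T} {g' : Y' ⟶ T'} {e : Y' ⟶ Y} {h : T' ⟶ T}
    [IsIntegral T] [Subsingleton T] [IsIntegral T'] [Subsingleton T'] [LocallyOfFiniteType g]
    [LocallyOfFiniteType g'] (hsq : IsPullback e g' g h) (z : Y')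
    (hz : ∀ w : Y', e z ⤳ e w → w ⤳ z → w = z) :
    E4O.fdeg g' z = E4O.fdeg g (e z) := by
  classical
  haveI := isAffine_onePoint T
  haveI := isAffine_onePoint T'
  have hA := isField_onePoint T
  haveI : IsNoetherianRing Γ(T, ⊤) :=
    letI := hA.toField
    inferInstance
  obtain ⟨_, ⟨V, hV, rfl⟩, hyV, -⟩ := Y.isBasis_affineOpens.exists_subset_of_mem_open (Set.mem_univ (e z)) isOpen_univ
  replace hV : IsAffineOpen V := hV
  let V' : Y.affineOpens := ⟨V, hV⟩
  have le : V ≤ g ⁻¹ᵁ ⊤ := le_top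
  letI := (g.appLE ⊤ V le).hom.toAlgebra
  letI : Algebra Γ(T, ⊤) Γ(T', ⊤) := h.appTop.hom.toAlgebra
  haveI : Algebra.FiniteType Γ(T, ⊤) Γ(Y, V) :=
    HasRingHomProperty.appLE (P := @LocallyOfFiniteType) g inferInstance ⟨⊤, isAffineOpen_top T⟩ V' le
  haveI : IsNoetherianRing Γ(Y, V) := Algebra.FiniteType.isNoetherianRing Γ(T, ⊤) _
  letI : Field Γ(T', ⊤) := (isField_onePoint T').toField
  let P := primeAt V' (e z) hyV
  haveI : P.IsPrime := primeAt_isPrime V' (e z) hyV
  obtain ⟨a, d, ha, H⟩ := exists_generic_ass (A := Γ(T, ⊤)) (B := Γ(Y, V)) (M := Γ(Y, V) ⧸ P)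
  have hP : P ∈ associatedPrimes Γ(Y, V) (Γ(Y, V) ⧸ P) := by rw [ass_quotient_prime P]; rfl
  have hPA : P.comap (algebraMap Γ(T, ⊤) Γ(Y, V)) = ⊥ := by
    refine eq_bot_iff.mpr fun c hc => ?_
    by_contra h0
    obtain ⟨c', hc'⟩ := hA.mul_inv_cancel h0
    exact (primeAt_isPrime V' (e z) hyV).ne_top ((Ideal.eq_top_iff_one _).mpr (by
      rw [← map_one (algebraMap Γ(T, ⊤) Γ(Y, V)), ← hc', map_mul]
      exact Ideal.mul_mem_right _ _ hc))
  have hne : ∀ (K : Type u) [Field K] [Algebra Γ(T, ⊤) K], algebraMap Γ(T, ⊤) K a ≠ 0 := fun K _ _ h0 => by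
    obtain ⟨c', hc'⟩ := hA.mul_inv_cancel ha
    have := congrArg (algebraMap Γ(T, ⊤) K) hc'
    rw [map_mul, h0, zero_mul, map_one] at this
    exact zero_ne_one this
  -- downstairs
  let K := FractionRing Γ(T, ⊤)
  have hbij : Function.Bijective (algebraMap Γ(T, ⊤) K) := hA.localization_map_bijective (M := nonZeroDivisors _) (fun h => nonZeroDivisors.ne_zero h rfl)
  let E : K ⊗[Γ(T, ⊤)] Γ(Y, V) ≃ₐ[Γ(T, ⊤)] Γ(Y, V) :=
    (Algebra.TensorProduct.congr (AlgEquiv.ofBijective (Algebra.ofId Γ(T, ⊤) K) hbij).symm AlgEquiv.refl).trans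
      (Algebra.TensorProduct.lid Γ(T, ⊤) Γ(Y, V))
  have hE : ∀ b, E (inc K b) = b := fun b => by simp [E, inc]
  have hd : ringKrullDim (Γ(Y, V) ⧸ P) = (d P : WithBot ℕ∞) := by
    obtain ⟨-, hgen⟩ := H K (hne K)
    obtain ⟨⟨Q, hQ⟩, hdim, -⟩ := hgen P hP hPA
    rw [← hdim Q hQ]
    have hmap : P.map (inc K) = P.comap E.toRingEquiv.toRingHom := by
      refine le_antisymm (Ideal.map_le_iff_le_comap.mpr fun b hb => ?_) fun x hx => ?_
      · show E (inc K b) ∈ P
        rw [hE]; exact hb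
      · have : x = inc K (E x) := E.injective (hE _).symm
        rw [this]
        exact Ideal.mem_map_of_mem _ hx
    haveI : (P.map (inc K)).IsPrime := by rw [hmap]; exact Ideal.comap_isPrime _ _
    have hQe : Q = P.map (inc K) := le_antisymm (hQ.2 ⟨inferInstance, le_rfl⟩ hQ.1.2) hQ.1.2
    refine ringKrullDim_eq_of_ringEquiv (Ideal.quotientEquiv Q P E.toRingEquiv ?_).symm
    rw [hQe, hmap]
    exact (Ideal.map_comap_of_surjective _ E.surjective P).symm
  have hy : (E4O.fdeg g (e z) : WithBot ℕ∞) = ringKrullDim (Γ(Y, V) ⧸ P) := by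
    have hq : hV.fromSpec ⟨P, inferInstance⟩ = e z := hV.fromSpec_primeIdealOf ⟨e z, hyV⟩
    rw [ringKrullDim_quotient_eq_of_isEmbedding (fun q => hV.fromSpec q) hV.fromSpec.isOpenEmbedding.isEmbedding
      ⟨P, inferInstance⟩, hq]
    show _ = topologicalKrullDim ↥(closure {e z} ∩ Set.range hV.fromSpec)
    rw [hV.range_fromSpec, ← E4O.dim_open_inter_fibreClosure (f := g) (e z) V.isOpen hyV,
      show g ⁻¹' {g (e z)} = Set.univ from Set.eq_univ_of_forall fun w => Subsingleton.elim _ _, Set.inter_univ,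
      Set.inter_comm]
  -- upstairs
  let R := Γ(T', ⊤) ⊗[Γ(T, ⊤)] Γ(Y, V)
  have w1 : Spec.map (CommRingCat.ofHom (algebraMap Γ(T, ⊤) Γ(Y, V))) ≫ (isAffineOpen_top T).fromSpec =
      hV.fromSpec ≫ g := IsAffineOpen.SpecMap_appLE_fromSpec g (isAffineOpen_top T) hV le
  have w2 : Spec.map (CommRingCat.ofHom (algebraMap Γ(T, ⊤) Γ(T', ⊤))) ≫ (isAffineOpen_top T).fromSpec =
      (isAffineOpen_top T').fromSpec ≫ h := by
    rw [← IsAffineOpen.SpecMap_appLE_fromSpec h (isAffineOpen_top T) (isAffineOpen_top T') le_top]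
    congr 2
    show h.appTop = _
    simp [Scheme.Hom.appLE]
  let dm : Spec (CommRingCat.of R) ⟶ Y' :=
    (pullbackSpecIso Γ(T, ⊤) Γ(T', ⊤) Γ(Y, V)).inv ≫ (pullbackSymmetry _ _).hom ≫
      pullback.map _ _ g h hV.fromSpec (isAffineOpen_top T').fromSpec (isAffineOpen_top T).fromSpec w1 w2 ≫
        hsq.isoPullback.inv
  have hde : dm ≫ e = Spec.map (CommRingCat.ofHom (inc Γ(T', ⊤))) ≫ hV.fromSpec := by
    simp only [dm, pullback.map, Category.assoc, IsPullback.isoPullback_inv_fst, pullback.lift_fst,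
      pullbackSymmetry_hom_comp_fst_assoc, pullbackSpecIso_inv_snd_assoc]
    rfl
  have hdem : IsEmbedding dm := by
    haveI : IsOpenImmersion dm := by dsimp only [dm]; infer_instance
    exact dm.isOpenEmbedding.isEmbedding
  have hrange : Set.range dm = e ⁻¹' (V : Set Y) := by
    have h1 : Set.range (pullback.map _ _ g h hV.fromSpec (isAffineOpen_top T').fromSpec
        (isAffineOpen_top T).fromSpec w1 w2) = pullback.fst g h ⁻¹' (V : Set Y) := by
      rw [Scheme.Pullback.range_map, hV.range_fromSpec, (isAffineOpen_top T').range_fromSpec,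
        show ((⊤ : T'.Opens) : Set T') = Set.univ from rfl, Set.preimage_univ, Set.inter_univ]
    dsimp only [dm]
    rw [← Category.assoc, ← Category.assoc, Scheme.Hom.comp_base, TopCat.coe_comp, Set.range_comp,
      Scheme.Hom.comp_base, TopCat.coe_comp, Set.range_comp,
      ((pullbackSpecIso Γ(T, ⊤) Γ(T', ⊤) Γ(Y, V)).inv ≫ (pullbackSymmetry _ _).hom).surjective.range_eq,
      Set.image_univ, h1]
    ext w
    constructor
    · rintro ⟨w', hw', rfl⟩
      show e _ ∈ V
      rw [← Scheme.Hom.comp_apply, IsPullback.isoPullback_inv_fst]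
      exact hw'
    · intro hw
      refine ⟨hsq.isoPullback.hom w, ?_, by rw [← Scheme.Hom.comp_apply, Iso.hom_inv_id]; rfl⟩
      show pullback.fst g h _ ∈ V
      rw [← Scheme.Hom.comp_apply, IsPullback.isoPullback_hom_fst]
      exact hw
  obtain ⟨Q, hQz⟩ := hrange.ge (show z ∈ e ⁻¹' (V : Set Y) from hyV)
  let Q' : PrimeSpectrum R := Q
  have hcomap : ∀ q : PrimeSpectrum R, e (dm q) = hV.fromSpec (PrimeSpectrum.comap (inc Γ(T', ⊤)) q) := fun q => by
    rw [← Scheme.Hom.comp_apply, hde]; rfl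
  have hPQ : Q'.asIdeal.comap (inc Γ(T', ⊤)) = P := by
    have := (hV.fromSpec_primeIdealOf ⟨e z, hyV⟩).trans ((congrArg e hQz).symm.trans (hcomap Q'))
    exact (congrArg PrimeSpectrum.asIdeal (hV.fromSpec.isOpenEmbedding.injective this)).symm
  have hmin : Q'.asIdeal ∈ (P.map (inc Γ(T', ⊤))).minimalPrimes := by
    refine ⟨⟨Q'.isPrime, Ideal.map_le_iff_le_comap.mpr hPQ.ge⟩, fun Q₁ ⟨hQ₁, hle⟩ hQ₁Q => ?_⟩
    let q₁ : PrimeSpectrum R := ⟨Q₁, hQ₁⟩
    have hw : dm q₁ ⤳ z := by
      rw [← hQz]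
      exact ((PrimeSpectrum.le_iff_specializes q₁ Q').mp hQ₁Q).map dm.continuous
    have hw' : e z ⤳ e (dm q₁) := by
      refine (specializes_of_eq (hV.fromSpec_primeIdealOf ⟨e z, hyV⟩).symm).trans
        (Specializes.trans ?_ (specializes_of_eq (hcomap q₁).symm))
      exact ((PrimeSpectrum.le_iff_specializes _ _).mp (show P ≤ _ from Ideal.map_le_iff_le_comap.mp hle)).map
        hV.fromSpec.continuous
    have := hdem.injective ((hz _ hw' hw).trans hQz.symm)
    exact (congrArg PrimeSpectrum.asIdeal this).ge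
  obtain ⟨-, hgen⟩ := H Γ(T', ⊤) (hne _)
  have h2 := (hgen P hP hPA).2.1 _ hmin
  rw [ringKrullDim_quotient_eq_of_isEmbedding (fun q => dm q) hdem Q', show dm Q' = z from hQz] at h2
  change topologicalKrullDim ↥(closure {z} ∩ Set.range dm) = _ at h2
  rw [hrange] at h2
  have h3 := E4O.dim_open_inter_fibreClosure (f := g') z (W := e ⁻¹' (V : Set Y))
    (V.isOpen.preimage e.continuous) hyV
  rw [show g' ⁻¹' {g' z} = Set.univ from Set.eq_univ_of_forall fun w => Subsingleton.elim _ _, Set.inter_univ,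
    Set.inter_comm, h2, ← hd, ← hy] at h3
  exact_mod_cast h3.symm

end Groth.Agent.FBase64.AssFibre
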