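import Groth.Agent.FBase64.AssFibre.Normalization
import Groth.Agent.CAlg4.RDLifting
import Groth.Agent.Cons62.Core
import Groth.Agent.FlatCrit65.GenFree
import Mathlib.RingTheory.Ideal.AssociatedPrime.Localization
import Mathlib.RingTheory.Regular.IsSMulRegular
import Mathlib.LinearAlgebra.TensorProduct.Pi

/-! The associated primes of the fibres of a module near the generic fibre. -/

set_option autoImplicit false
set_option linter.style.haveILetI false
universe u

open TensorProduct

namespace Groth.Agent.FBase64.AssFibre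

attribute [local instance] Algebra.TensorProduct.rightAlgebra

theorem rTensor_inj {A X Y K : Type u} [CommRing A] [AddCommGroup X] [Module A X] [AddCommGroup Y] [Module A Y]
    [AddCommGroup K] [Module A K] (f : X →ₗ[A] Y) (h : Function.Injective (f.lTensor K)) :
    Function.Injective (f.rTensor K) := by
  have e : ∀ z, TensorProduct.comm A Y K (f.rTensor K z) = f.lTensor K (TensorProduct.comm A X K z) := fun z => by
    induction z using TensorProduct.induction_on with
    | zero => simp
    | add a b ha hb => simp only [map_add, ha, hb]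
    | tmul x k => simp
  exact fun a b hab => (TensorProduct.comm A X K).injective (h (by rw [← e, ← e, hab]))

section Operators

variable {A C : Type u} [CommRing A] [CommRing C] [Algebra A C] {K : Type u} [Field K] [Algebra A K]

/-- The action of `K ⊗ C` on `X ⊗ K`, as a linear family of operators. -/
noncomputable def act (X : Type u) [AddCommGroup X] [Module A X] [Module C X] [IsScalarTower A C X] :
    K ⊗[A] C →ₗ[A] (X ⊗[A] K →ₗ[A] X ⊗[A] K) :=
  TensorProduct.lift
    (((TensorProduct.mapBilinear (RingHom.id A) X K X K).flip.comp (LinearMap.mul A K)).compl₂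
      (((Algebra.lsmul A A X : C →ₐ[A] Module.End A X)).toLinearMap))

theorem act_tmul (X : Type u) [AddCommGroup X] [Module A X] [Module C X] [IsScalarTower A C X]
    (k : K) (c : C) (x : X) (l : K) : act X (k ⊗ₜ[A] c) (x ⊗ₜ[A] l) = (c • x) ⊗ₜ[A] (k * l) := by
  simp [act]

theorem act_natural {X Y : Type u} [AddCommGroup X] [Module A X] [Module C X] [IsScalarTower A C X]
    [AddCommGroup Y] [Module A Y] [Module C Y] [IsScalarTower A C Y] (h : X →ₗ[C] Y)
    (c : K ⊗[A] C) (z : X ⊗[A] K) :
    (h.restrictScalars A).rTensor K (act X c z) = act Y c ((h.restrictScalars A).rTensor K z) := by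
  induction c using TensorProduct.induction_on with
  | zero => simp
  | add a b ha hb => simp only [map_add, LinearMap.add_apply, ha, hb]
  | tmul k c =>
    induction z using TensorProduct.induction_on with
    | zero => simp
    | add a b ha hb => simp only [map_add, ha, hb]
    | tmul x l => simp [act_tmul]

theorem act_self (c : K ⊗[A] C) (z : C ⊗[A] K) :
    TensorProduct.comm A C K (act C c z) = c * TensorProduct.comm A C K z := by
  induction c using TensorProduct.induction_on with
  | zero => simp
  | add a b ha hb => simp only [map_add, LinearMap.add_apply, ha, hb, add_mul]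
  | tmul k c =>
    induction z using TensorProduct.induction_on with
    | zero => simp
    | add a b ha hb => simp only [map_add, ha, hb, mul_add]
    | tmul x l => simp [act_tmul, smul_eq_mul]

/-- A nonzero element of a domain acts injectively on a free module. -/
theorem act_pi_eq_zero [IsDomain (K ⊗[A] C)] {r : ℕ} {c : K ⊗[A] C} (hc : c ≠ 0)
    (z : (Fin r → C) ⊗[A] K) (h : act (Fin r → C) c z = 0) : z = 0 := by
  have hproj : ∀ i, ((LinearMap.proj i : (Fin r → C) →ₗ[C] C).restrictScalars A).rTensor K z = 0 := fun i => by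
    have h1 := act_natural (LinearMap.proj i : (Fin r → C) →ₗ[C] C) c z
    rw [h, map_zero] at h1
    have h2 := act_self c (((LinearMap.proj i : (Fin r → C) →ₗ[C] C).restrictScalars A).rTensor K z)
    rw [← h1, map_zero] at h2
    exact (TensorProduct.comm A C K).map_eq_zero_iff.mp ((mul_eq_zero.mp h2.symm).resolve_left hc)
  have hsum : ∀ w : (Fin r → C) ⊗[A] K, w = ∑ i, (LinearMap.single A (fun _ : Fin r => C) i).rTensor K
      (((LinearMap.proj i : (Fin r → C) →ₗ[C] C).restrictScalars A).rTensor K w) := by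
    intro w
    induction w using TensorProduct.induction_on with
    | zero => simp
    | add a b ha hb => simp only [map_add, Finset.sum_add_distrib, ← ha, ← hb]
    | tmul x l =>
      simp only [LinearMap.rTensor_tmul, LinearMap.restrictScalars_apply, LinearMap.proj_apply,
        LinearMap.single_apply, ← TensorProduct.sum_tmul]
      rw [Finset.univ_sum_single x]
  rw [hsum z]
  simp [hproj]

end Operators

section Fibre

variable {A B : Type u} [CommRing A] [CommRing B] [Algebra A B] (K : Type u) [Field K] [Algebra A K]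

/-- The inclusion of the algebra in its fibre. -/
noncomputable abbrev inc : B →+* K ⊗[A] B :=
  (Algebra.TensorProduct.includeRight (R := A) (A := K) (B := B)).toRingHom

variable (M : Type u) [AddCommGroup M] [Module A M] [Module B M] [IsScalarTower A B M]

/-- The fibre of a module. -/
noncomputable def fibreEquiv : (K ⊗[A] B) ⊗[B] M ≃ₗ[B] M ⊗[A] K :=
  ((TensorProduct.comm B (K ⊗[A] B) M).trans
    (TensorProduct.congr (LinearEquiv.refl B M)
      (Algebra.TensorProduct.commRight A B K).symm.toLinearEquiv)).trans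
    (AlgebraTensorModule.cancelBaseChange A B B M K)

theorem fibreEquiv_tmul (k : K) (b : B) (m : M) :
    fibreEquiv K M ((k ⊗ₜ[A] b) ⊗ₜ[B] m) = (b • m) ⊗ₜ[A] k := by
  simp [fibreEquiv, TensorProduct.smul_tmul']

theorem fibreEquiv_smul {C : Type u} [CommRing C] [Algebra A C] (g : C →ₐ[A] B) [Module C M] [IsScalarTower A C M]
    (hg : ∀ (c : C) (m : M), c • m = g c • m) (c : K ⊗[A] C) (z : (K ⊗[A] B) ⊗[B] M) :
    fibreEquiv K M (Algebra.TensorProduct.map (AlgHom.id A K) g c • z) = act M c (fibreEquiv K M z) := by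
  induction c using TensorProduct.induction_on with
  | zero => simp
  | add a b ha hb => simp only [map_add, LinearMap.add_apply, add_smul, ha, hb]
  | tmul k c =>
    induction z using TensorProduct.induction_on with
    | zero => simp
    | add a b ha hb => simp only [smul_add, map_add, ha, hb]
    | tmul r m =>
      induction r using TensorProduct.induction_on with
      | zero => simp
      | add a b ha hb => simp only [TensorProduct.add_tmul, smul_add, map_add, ha, hb]
      | tmul l b =>
        simp only [Algebra.TensorProduct.map_tmul, AlgHom.id_apply, TensorProduct.smul_tmul',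
          smul_eq_mul, Algebra.TensorProduct.tmul_mul_tmul, fibreEquiv_tmul, act_tmul, hg, mul_smul]

theorem lTensor_injective {M' : Type u} [AddCommGroup M'] [Module A M'] [Module B M'] [IsScalarTower A B M']
    (h : M →ₗ[B] M') (hK : Function.Injective ((h.restrictScalars A).baseChange K)) :
    Function.Injective (h.lTensor (K ⊗[A] B)) := by
  have hr : Function.Injective ((h.restrictScalars A).rTensor K) := rTensor_inj _ hK
  have hcomm : ∀ z, fibreEquiv K M' (h.lTensor (K ⊗[A] B) z) = (h.restrictScalars A).rTensor K (fibreEquiv K M z) := by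
    intro z
    induction z using TensorProduct.induction_on with
    | zero => simp
    | add a b ha hb => simp only [map_add, ha, hb]
    | tmul r m =>
      induction r using TensorProduct.induction_on with
      | zero => simp
      | add a b ha hb => simp only [TensorProduct.add_tmul, map_add, ha, hb]
      | tmul l b => simp [fibreEquiv_tmul]
  intro x y hxy
  exact (fibreEquiv K M).injective (hr (by rw [← hcomm, ← hcomm, hxy]))

end Fibre

theorem freeAway_of_torsion {A T : Type u} [CommRing A] [AddCommGroup T] [Module A T] {a : A}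
    (h : ∀ t : T, ∃ n : ℕ, a ^ n • t = 0) : GenFree62.FreeAway a T := by
  intro A' _ _ hu
  haveI : Subsingleton (A' ⊗[A] T) := by
    refine subsingleton_of_forall_eq 0 fun z => ?_
    induction z using TensorProduct.induction_on with
    | zero => rfl
    | add x y hx hy => rw [hx, hy, add_zero]
    | tmul x t =>
      obtain ⟨n, hn⟩ := h t
      obtain ⟨e, he⟩ := (hu.pow n).exists_left_inv
      calc x ⊗ₜ[A] t = (e * x * algebraMap A A' (a ^ n)) ⊗ₜ[A] t := by
            rw [map_pow, mul_comm e x, mul_assoc, he, mul_one]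
        _ = 0 := by
            rw [mul_comm, ← Algebra.smul_def, TensorProduct.smul_tmul, hn, TensorProduct.tmul_zero]
  exact inferInstance

variable {A B : Type u} [CommRing A] [IsDomain A] [IsNoetherianRing A] [CommRing B] [Algebra A B]
  [Algebra.FiniteType A B] {M : Type u} [AddCommGroup M] [Module A M] [Module B M] [IsScalarTower A B M]
  [Module.Finite B M]

/-- A normalization datum for a prime of the algebra. -/
structure Norm (P : Ideal B) where
  a : A
  s : ℕ
  g : MvPolynomial (Fin s) A →ₐ[A] B
  ha : a ≠ 0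
  inj : ∀ c, g c ∈ P → c = 0
  int : ∀ b : B, ∃ n : ℕ, ((Ideal.Quotient.mk P).comp g.toRingHom).IsIntegralElem
    (Ideal.Quotient.mk P (algebraMap A B a ^ n * b))

omit [IsNoetherianRing A] in
theorem nonempty_norm (P : Ideal B) [P.IsPrime] (hP : P.comap (algebraMap A B) = ⊥) :
    Nonempty (Norm (A := A) P) := by
  have hinj : Function.Injective (algebraMap A (B ⧸ P)) := by
    refine (injective_iff_map_eq_zero _).mpr fun c hc => ?_
    have : c ∈ P.comap (algebraMap A B) := Ideal.mem_comap.mpr (Ideal.Quotient.eq_zero_iff_mem.mp (by exact hc))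
    rwa [hP] at this
  obtain ⟨a, s, g, ha, hg, hint⟩ := exists_normalization A (B ⧸ P) hinj
  choose b hb using fun i => Ideal.Quotient.mk_surjective (g (MvPolynomial.X i))
  let g' : MvPolynomial (Fin s) A →ₐ[A] B := MvPolynomial.aeval b
  have hcomp : (Ideal.Quotient.mkₐ A P).comp g' = g :=
    MvPolynomial.algHom_ext fun i => by simp [g', hb]
  have hcomp' : (Ideal.Quotient.mk P).comp g'.toRingHom = g.toRingHom :=
    congrArg AlgHom.toRingHom hcomp
  refine ⟨⟨a, s, g', ha, fun c hc => ?_, fun z => ?_⟩⟩
  · refine (injective_iff_map_eq_zero g).mp hg c ?_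
    rw [← hcomp]
    exact Ideal.Quotient.eq_zero_iff_mem.mpr hc
  · obtain ⟨n, hn⟩ := hint (Ideal.Quotient.mk P z)
    exact ⟨n, by rw [hcomp', map_mul, map_pow]; exact hn⟩

/-- The polynomial ring over the field maps to the fibre. -/
noncomputable abbrev Norm.φ {P : Ideal B} (N : Norm (A := A) P) (K : Type u) [Field K] [Algebra A K] :
    K ⊗[A] MvPolynomial (Fin N.s) A →ₐ[A] K ⊗[A] B :=
  Algebra.TensorProduct.map (AlgHom.id A K) N.g

omit [IsNoetherianRing A] [Algebra.FiniteType A B] in
theorem Norm.isIntegral_quotient {P : Ideal B} (N : Norm (A := A) P) (K : Type u) [Field K] [Algebra A K]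
    (hK : algebraMap A K N.a ≠ 0) (Q : Ideal (K ⊗[A] B)) (hQ : P ≤ Q.comap (inc K)) :
    ((Ideal.Quotient.mk Q).comp (N.φ K).toRingHom).IsIntegral := by
  let h := (Ideal.Quotient.mk Q).comp (N.φ K).toRingHom
  intro x
  obtain ⟨x, rfl⟩ := Ideal.Quotient.mk_surjective x
  induction x using TensorProduct.induction_on with
  | zero => rw [map_zero]; exact h.isIntegralElem_zero
  | add x y hx hy => rw [map_add]; exact RingHom.IsIntegralElem.add _ hx hy
  | tmul k b =>
    obtain ⟨n, p, hp, hp0⟩ := N.int b
    let j : B ⧸ P →+* (K ⊗[A] B) ⧸ Q := Ideal.Quotient.lift P ((Ideal.Quotient.mk Q).comp (inc K))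
      fun c hc => Ideal.Quotient.eq_zero_iff_mem.mpr (hQ hc)
    let i : MvPolynomial (Fin N.s) A →+* K ⊗[A] MvPolynomial (Fin N.s) A :=
      (Algebra.TensorProduct.includeRight (R := A) (A := K) (B := MvPolynomial (Fin N.s) A)).toRingHom
    have h1 : h.IsIntegralElem (Ideal.Quotient.mk Q ((1 : K) ⊗ₜ[A] (algebraMap A B N.a ^ n * b))) := by
      refine ⟨p.map i, hp.map i, ?_⟩
      have e : h.comp i = j.comp ((Ideal.Quotient.mk P).comp N.g.toRingHom) :=
        RingHom.ext fun c => by simp [h, i, j, Norm.φ, inc]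
      rw [Polynomial.eval₂_map, e]
      show Polynomial.eval₂ _ (j (Ideal.Quotient.mk P (algebraMap A B N.a ^ n * b))) p = 0
      rw [← Polynomial.hom_eval₂, hp0, map_zero]
    have e : k ⊗ₜ[A] b = (N.φ K) ((k * (algebraMap A K N.a)⁻¹ ^ n) ⊗ₜ[A] 1) *
        ((1 : K) ⊗ₜ[A] (algebraMap A B N.a ^ n * b)) := by
      rw [Norm.φ, Algebra.TensorProduct.map_tmul, map_one, Algebra.TensorProduct.tmul_mul_tmul, one_mul,
        AlgHom.id_apply, mul_one, ← map_pow, ← Algebra.smul_def, ← TensorProduct.smul_tmul, Algebra.smul_def,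
        map_pow, mul_comm (algebraMap A K N.a ^ n), mul_assoc, ← mul_pow, inv_mul_cancel₀ hK, one_pow, mul_one]
    rw [e, map_mul]
    exact RingHom.IsIntegralElem.mul _ (RingHom.isIntegralElem_map h) h1

omit [IsNoetherianRing A] [Algebra.FiniteType A B] [Module.Finite B M] in
theorem noZeroSMul_of_ass [IsNoetherianRing B] {P : Ideal B} (hAss : associatedPrimes B M = {P}) {b : B}
    (hb : b ∉ P) {m : M} (h : b • m = 0) : m = 0 := by
  by_contra hm
  have : b ∈ {r : B | ∃ x : M, x ≠ 0 ∧ r • x = 0} := ⟨m, hm, h⟩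
  rw [← biUnion_associatedPrimes_eq_zero_divisors, hAss] at this
  simp only [Set.mem_singleton_iff, Set.iUnion_iUnion_eq_left, SetLike.mem_coe] at this
  exact hb this

/-- The associated primes of the fibres of a coprimary module. -/
theorem exists_forall_ass_coprimary (P : Ideal B) [P.IsPrime] (hAss : associatedPrimes B M = {P})
    (N : Norm (A := A) P) :
    ∃ f : A, f ≠ 0 ∧ ∀ (K : Type u) [Field K] [Algebra A K], algebraMap A K f ≠ 0 →
      ∀ Q ∈ associatedPrimes (K ⊗[A] B) ((K ⊗[A] B) ⊗[B] M),
        P ≤ Q.comap (inc K) ∧ Q.comap (N.φ K).toRingHom = ⊥ := by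
  classical
  haveI : IsNoetherianRing B := Algebra.FiniteType.isNoetherianRing A B
  let C := MvPolynomial (Fin N.s) A
  let J := Module.annihilator B M
  have hrad : J.radical = P := by
    rw [← Ideal.sInf_minimalPrimes]
    have hsub : J.minimalPrimes ⊆ {P} := hAss ▸ Module.associatedPrimes.minimalPrimes_annihilator_subset_associatedPrimes B M
    haveI : Nontrivial M := by
      by_contra h
      rw [not_nontrivial_iff_subsingleton] at h
      rw [associatedPrimes.eq_empty_of_subsingleton] at hAss
      exact (Set.singleton_nonempty P).ne_empty hAss.symm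
    have hJ : J ≠ ⊤ := fun h => not_subsingleton M (Module.annihilator_eq_top_iff.mp h)
    obtain ⟨q, hq⟩ := Ideal.nonempty_minimalPrimes hJ
    rw [(Set.eq_singleton_iff_unique_mem.mpr ⟨hsub hq ▸ hq, fun r hr => hsub hr⟩ : J.minimalPrimes = {P}), sInf_singleton]
  letI : Module C M := Module.compHom M N.g.toRingHom
  haveI : IsScalarTower A C M := IsScalarTower.of_algebraMap_smul fun c m => by
    show N.g (algebraMap A C c) • m = c • m
    rw [AlgHom.commutes, algebraMap_smul]
  -- integrality modulo the annihilator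
  letI : Algebra C (B ⧸ J) := ((Ideal.Quotient.mk J).comp N.g.toRingHom).toAlgebra
  have hint : ∀ b : B, ∃ n : ℕ, IsIntegral C (Ideal.Quotient.mk J (algebraMap A B N.a ^ n * b)) := by
    intro b
    obtain ⟨n, p, hp, hp0⟩ := N.int b
    refine ⟨n, ?_⟩
    rw [← Polynomial.hom_eval₂, Ideal.Quotient.eq_zero_iff_mem] at hp0
    obtain ⟨e, he⟩ := hrad.symm.le hp0
    refine ⟨p ^ e, hp.pow e, ?_⟩
    show Polynomial.eval₂ ((Ideal.Quotient.mk J).comp N.g.toRingHom) _ _ = 0
    rw [← Polynomial.hom_eval₂, Polynomial.eval₂_pow, Ideal.Quotient.eq_zero_iff_mem]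
    exact he
  obtain ⟨S₀, hS₀⟩ := ‹Algebra.FiniteType A B›.out
  choose n hn using hint
  let y : B → B ⧸ J := fun b => Ideal.Quotient.mk J (algebraMap A B N.a ^ n b * b)
  let S := Algebra.adjoin C (y '' (S₀ : Set B))
  have hSfg : (Subalgebra.toSubmodule S).FG :=
    fg_adjoin_of_finite (S₀.finite_toSet.image _) (by rintro _ ⟨b, -, rfl⟩; exact hn b)
  obtain ⟨T, hT⟩ := hSfg
  choose lift hlift using Ideal.Quotient.mk_surjective (I := J)
  obtain ⟨G, hG⟩ := ‹Module.Finite B M›.fg_top
  let gens : Finset M := (T ×ˢ G).image fun tm => lift tm.1 • tm.2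
  let M₀ : Submodule C M := Submodule.span C (gens : Set M)
  let aJ : B ⧸ J := algebraMap A (B ⧸ J) N.a
  have haS : ∀ k, aJ ^ k ∈ S := fun k => by
    refine pow_mem ?_ k
    have : aJ = algebraMap C (B ⧸ J) (algebraMap A C N.a) := by
      show Ideal.Quotient.mk J (algebraMap A B N.a) = Ideal.Quotient.mk J (N.g (algebraMap A C N.a))
      rw [AlgHom.commutes]
    rw [this]; exact S.algebraMap_mem _
  have hS : ∀ b : B, ∃ k : ℕ, aJ ^ k * Ideal.Quotient.mk J b ∈ S := by
    intro b
    have hb : b ∈ Algebra.adjoin A (S₀ : Set B) := hS₀ ▸ trivial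
    induction hb using Algebra.adjoin_induction with
    | mem b hb =>
      refine ⟨n b, ?_⟩
      have := Algebra.subset_adjoin (R := C) (Set.mem_image_of_mem y hb)
      simpa [y, aJ, S] using this
    | algebraMap r =>
      refine ⟨0, ?_⟩
      rw [pow_zero, one_mul, show Ideal.Quotient.mk J (algebraMap A B r) =
        algebraMap C (B ⧸ J) (algebraMap A C r) from by
          show _ = Ideal.Quotient.mk J (N.g (algebraMap A C r)); rw [AlgHom.commutes]]
      exact S.algebraMap_mem _
    | add b c _ _ hb hc =>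
      obtain ⟨k, hk⟩ := hb
      obtain ⟨l, hl⟩ := hc
      refine ⟨k + l, ?_⟩
      rw [map_add, show aJ ^ (k + l) * (Ideal.Quotient.mk J b + Ideal.Quotient.mk J c) =
        aJ ^ l * (aJ ^ k * Ideal.Quotient.mk J b) + aJ ^ k * (aJ ^ l * Ideal.Quotient.mk J c) by ring]
      exact add_mem (mul_mem (haS l) hk) (mul_mem (haS k) hl)
    | mul b c _ _ hb hc =>
      obtain ⟨k, hk⟩ := hb
      obtain ⟨l, hl⟩ := hc
      refine ⟨k + l, ?_⟩
      rw [map_mul, show aJ ^ (k + l) * (Ideal.Quotient.mk J b * Ideal.Quotient.mk J c) =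
        (aJ ^ k * Ideal.Quotient.mk J b) * (aJ ^ l * Ideal.Quotient.mk J c) by ring]
      exact mul_mem hk hl
  have hmk : ∀ (b b' : B) (m : M), Ideal.Quotient.mk J b = Ideal.Quotient.mk J b' → b • m = b' • m := by
    intro b b' m h
    rw [← sub_eq_zero, ← sub_smul]
    exact Module.mem_annihilator.mp (Ideal.Quotient.eq.mp h) m
  have hmem : ∀ (b : B) (z : M), z ∈ G → Ideal.Quotient.mk J b ∈ S → b • z ∈ M₀ := by
    intro b z hz hb
    rw [← Subalgebra.mem_toSubmodule, ← hT] at hb
    have : ∀ w ∈ Submodule.span C (T : Set (B ⧸ J)), lift w • z ∈ M₀ := by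
      intro w hw
      induction hw using Submodule.span_induction with
      | mem t ht => exact Submodule.subset_span (Finset.mem_image.mpr ⟨(t, z), Finset.mk_mem_product ht hz, rfl⟩)
      | zero =>
        rw [hmk _ 0 z (by rw [hlift, map_zero]), zero_smul]; exact zero_mem _
      | add v w _ _ hv hw =>
        rw [hmk _ (lift v + lift w) z (by rw [map_add, hlift, hlift, hlift]), add_smul]
        exact add_mem hv hw
      | smul c w _ hw =>
        rw [hmk _ (N.g c * lift w) z (by rw [map_mul, hlift, hlift]; rfl), mul_smul]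
        exact M₀.smul_mem c hw
    rw [hmk b _ z (hlift _).symm]
    exact this _ hb
  have htor : ∀ m : M, ∃ k : ℕ, N.a ^ k • m ∈ M₀ := by
    intro m
    have hm : m ∈ Submodule.span B (G : Set M) := hG ▸ trivial
    suffices ∀ b : B, ∃ k : ℕ, N.a ^ k • (b • m) ∈ M₀ by simpa using this 1
    induction hm using Submodule.span_induction with
    | mem z hz =>
      intro b
      obtain ⟨k, hk⟩ := hS b
      refine ⟨k, ?_⟩
      rw [← algebraMap_smul B (N.a ^ k), ← mul_smul]
      refine hmem _ z hz ?_
      rw [map_mul, map_pow, map_pow]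
      exact hk
    | zero => exact fun b => ⟨0, by simp⟩
    | add v w _ _ hv hw =>
      intro b
      obtain ⟨k, hk⟩ := hv b
      obtain ⟨l, hl⟩ := hw b
      refine ⟨k + l, ?_⟩
      rw [smul_add, smul_add]
      refine add_mem ?_ ?_
      · rw [add_comm k l, pow_add, mul_smul]; exact M₀.smul_of_tower_mem _ hk
      · rw [pow_add, mul_smul]; exact M₀.smul_of_tower_mem _ hl
    | smul c w _ hw =>
      intro b
      rw [smul_smul]
      exact hw (b * c)
  -- embedding in a free module
  haveI : Module.Finite C M₀ := Module.Finite.iff_fg.mpr ⟨gens, rfl⟩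
  haveI : Module.IsTorsionFree C M₀ := by
    refine Module.isTorsionFree_iff_smul_eq_zero.mpr fun c m hcm => ?_
    by_contra h
    push Not at h
    exact h.2 (Subtype.ext (noZeroSMul_of_ass hAss (fun hgc => h.1 (N.inj c hgc)) (congrArg Subtype.val hcm)))
  obtain ⟨r, j, hj⟩ := CAlg4.RDLifting.exists_injective_free (R := C) M₀
  obtain ⟨f₁, hf₁, hfree, -⟩ := FlatCrit65.generic_freeness (R := A) (S := C)
    (M := (Fin r → C) ⧸ LinearMap.range j)
  refine ⟨N.a * f₁, mul_ne_zero N.ha hf₁, fun K _ _ hfK Q hQ => ?_⟩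
  rw [map_mul, mul_ne_zero_iff] at hfK
  have hjK : Function.Injective ((j.restrictScalars A).rTensor K) := by
    refine rTensor_inj _ ?_
    refine Cons62.baseChange_injective_of_freeAway (j.restrictScalars A) hj (hfree.of_equiv ?_) K
      (isUnit_iff_ne_zero.mpr hfK.2)
    exact (Submodule.Quotient.restrictScalarsEquiv A (LinearMap.range j)).symm ≪≫ₗ
      Submodule.quotEquivOfEq _ _ (LinearMap.range_restrictScalars j).symm
  let ι := (M₀.subtype).restrictScalars A
  have hιK : Function.Bijective (ι.rTensor K) := by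
    have htors : ∀ t : M ⧸ LinearMap.range ι, ∃ k : ℕ, N.a ^ k • t = 0 := by
      intro t
      obtain ⟨m, rfl⟩ := Submodule.Quotient.mk_surjective _ t
      obtain ⟨k, hk⟩ := htor m
      exact ⟨k, by rw [← Submodule.Quotient.mk_smul, Submodule.Quotient.mk_eq_zero]; exact ⟨⟨_, hk⟩, rfl⟩⟩
    refine ⟨rTensor_inj _ ?_, fun z => ?_⟩
    · exact Cons62.baseChange_injective_of_freeAway ι Subtype.val_injective
        (freeAway_of_torsion htors) K (isUnit_iff_ne_zero.mpr hfK.1)
    induction z using TensorProduct.induction_on with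
    | zero => exact ⟨0, map_zero _⟩
    | add x y hx hy =>
      obtain ⟨x', rfl⟩ := hx; obtain ⟨y', rfl⟩ := hy
      exact ⟨x' + y', map_add _ _ _⟩
    | tmul m l =>
      obtain ⟨k, hk⟩ := htor m
      refine ⟨(⟨_, hk⟩ : M₀) ⊗ₜ[A] ((algebraMap A K N.a)⁻¹ ^ k * l), ?_⟩
      rw [LinearMap.rTensor_tmul]
      show (N.a ^ k • m) ⊗ₜ[A] _ = _
      rw [TensorProduct.smul_tmul, Algebra.smul_def, map_pow, ← mul_assoc, ← mul_pow, mul_inv_cancel₀ hfK.1,
        one_pow, one_mul]
  haveI : IsNoetherianRing (K ⊗[A] B) := Algebra.FiniteType.isNoetherianRing K _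
  obtain ⟨hQp, z, hz⟩ := isAssociatedPrime_iff.mp hQ
  have hz0 : z ≠ 0 := fun h => hQp.ne_top (hz.trans (by simp [h]))
  have hmemQ : ∀ x : K ⊗[A] B, x ∈ Q ↔ x • z = 0 := fun x => by
    rw [hz, Submodule.mem_colon_singleton, Submodule.mem_bot]
  refine ⟨fun b hb => ?_, eq_bot_iff.mpr fun c hc => ?_⟩
  · obtain ⟨e, he⟩ : b ∈ J.radical := by rw [hrad]; exact hb
    refine hQp.mem_of_pow_mem e ((hmemQ _).mpr ?_)
    rw [← map_pow]
    have : ∀ w : (K ⊗[A] B) ⊗[B] M, (inc K : B →+* K ⊗[A] B) (b ^ e) • w = 0 := by
      intro w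
      induction w using TensorProduct.induction_on with
      | zero => simp
      | add x y hx hy => rw [smul_add, hx, hy, add_zero]
      | tmul r m =>
        apply (fibreEquiv K M).injective
        rw [map_zero, TensorProduct.smul_tmul', smul_eq_mul]
        induction r using TensorProduct.induction_on with
        | zero => simp
        | add x y hx hy => rw [mul_add, TensorProduct.add_tmul, map_add, hx, hy, add_zero]
        | tmul l b' =>
          show fibreEquiv K M ((((1 : K) ⊗ₜ[A] (b ^ e)) * (l ⊗ₜ[A] b')) ⊗ₜ[B] m) = 0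
          rw [Algebra.TensorProduct.tmul_mul_tmul, fibreEquiv_tmul, mul_smul,
            Module.mem_annihilator.mp he, TensorProduct.zero_tmul]
    exact this z
  · rw [Ideal.mem_comap] at hc
    by_contra hc0
    haveI : IsDomain (K ⊗[A] C) :=
      (MvPolynomial.algebraTensorAlgEquiv A K).toMulEquiv.isDomain _
    have h1 : act M c (fibreEquiv K M z) = 0 := by
      rw [← fibreEquiv_smul K M N.g (fun _ _ => rfl), show N.φ K c • z = 0 from (hmemQ _).mp hc, map_zero]
    obtain ⟨z₀, hz₀⟩ := hιK.2 (fibreEquiv K M z)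
    have h2 : act M₀ c z₀ = 0 := hιK.1 (by rw [map_zero, act_natural M₀.subtype, hz₀, h1])
    have h3 := act_pi_eq_zero hc0 ((j.restrictScalars A).rTensor K z₀) (by rw [← act_natural j, h2, map_zero])
    refine hz0 ((fibreEquiv K M).map_eq_zero_iff.mp ?_)
    rw [← hz₀, hjK (h3.trans (map_zero _).symm), map_zero]

end Groth.Agent.FBase64.AssFibre
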