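import Groth.Agent.FBase64.AssFibre.Generic

/-! The associated primes of the fibres are the minimal primes over the generic ones. -/

set_option autoImplicit false
set_option linter.style.haveILetI false
universe u

open TensorProduct

namespace Groth.Agent.FBase64.AssFibre

attribute [local instance] Algebra.TensorProduct.rightAlgebra

theorem ass_quotient_prime {B : Type u} [CommRing B] [IsNoetherianRing B] (P : Ideal B) [hP : P.IsPrime] :
    associatedPrimes B (B ⧸ P) = {P} := by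
  have hcol : ∀ x : B ⧸ P, x ≠ 0 → (⊥ : Submodule B (B ⧸ P)).colon {x} = P := by
    intro x hx
    obtain ⟨b, rfl⟩ := Ideal.Quotient.mk_surjective x
    ext r
    rw [Submodule.mem_colon_singleton, Submodule.mem_bot,
      show r • Ideal.Quotient.mk P b = Ideal.Quotient.mk P (r * b) from rfl, Ideal.Quotient.eq_zero_iff_mem]
    exact ⟨fun h => (hP.mem_or_mem h).resolve_right fun h => hx (Ideal.Quotient.eq_zero_iff_mem.mpr h),
      fun h => P.mul_mem_right _ h⟩
  ext q
  rw [Set.mem_singleton_iff]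
  constructor
  · intro hq
    obtain ⟨hqp, x, rfl⟩ := isAssociatedPrime_iff.mp hq
    exact hcol x fun h => hqp.ne_top (by simp [h])
  · rintro rfl
    exact isAssociatedPrime_iff.mpr ⟨hP, 1, (hcol 1 fun h =>
      hP.ne_top ((Ideal.eq_top_iff_one _).mpr (Ideal.Quotient.eq_zero_iff_mem.mp h))).symm⟩

theorem exists_coprimary_quotient {B M : Type u} [CommRing B] [IsNoetherianRing B] [AddCommGroup M] [Module B M]
    [Module.Finite B M] {P : Ideal B} (hP : P ∈ associatedPrimes B M) :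
    ∃ Q : Submodule B M, associatedPrimes B (M ⧸ Q) = {P} ∧ P ∉ associatedPrimes B Q := by
  haveI : IsNoetherian B M := isNoetherian_of_isNoetherianRing_of_finite B M
  obtain ⟨Q, hQ, hmax⟩ := set_has_maximal_iff_noetherian.mpr ‹IsNoetherian B M›
    {Q : Submodule B M | P ∉ associatedPrimes B Q} ⟨⊥, by
      show P ∉ associatedPrimes B ↥(⊥ : Submodule B M)
      rw [associatedPrimes.eq_empty_of_subsingleton]
      exact Set.notMem_empty _⟩
  refine ⟨Q, ?_, hQ⟩
  have hsub : associatedPrimes B (M ⧸ Q) ⊆ {P} := by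
    intro P' hP'
    by_contra hne
    obtain ⟨hp', x, hx⟩ := isAssociatedPrime_iff.mp hP'
    obtain ⟨m, rfl⟩ := Submodule.Quotient.mk_surjective Q x
    have hlt : Q < Q ⊔ Submodule.span B {m} := by
      refine lt_of_le_of_ne le_sup_left fun h => hp'.ne_top ?_
      have hm : m ∈ Q := h ▸ Submodule.mem_sup_right (Submodule.mem_span_singleton_self m)
      rw [hx, (Submodule.Quotient.mk_eq_zero Q).mpr hm]
      exact (Submodule.colon_eq_top_iff_subset _).mpr (by simp)
    refine hmax _ ?_ hlt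
    let Q' := Q ⊔ Submodule.span B {m}
    let ι : ↥Q →ₗ[B] ↥Q' := Submodule.inclusion le_sup_left
    have hmem : ∀ r : B, r ∈ P' ↔ r • (Submodule.Quotient.mk m : M ⧸ Q) = 0 := fun r => by
      rw [hx, Submodule.mem_colon_singleton, Submodule.mem_bot]
    let e : B ⧸ P' →ₗ[B] M ⧸ Q :=
      Submodule.liftQ P' (LinearMap.toSpanSingleton B _ (Submodule.Quotient.mk m)) fun r hr => (hmem r).mp hr
    have he : Function.Injective e := LinearMap.ker_eq_bot.mp
      (Submodule.ker_liftQ_eq_bot _ _ _ fun r hr => (hmem r).mpr hr)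
    let π : ↥Q' →ₗ[B] B ⧸ P' := (LinearEquiv.ofInjective e he).symm.toLinearMap.comp
      ((Q.mkQ.comp Q'.subtype).codRestrict (LinearMap.range e) fun z => by
        obtain ⟨q, hq, w, hw, hz⟩ := Submodule.mem_sup.mp z.2
        obtain ⟨r, rfl⟩ := Submodule.mem_span_singleton.mp hw
        refine ⟨Submodule.Quotient.mk r, ?_⟩
        show r • (Submodule.Quotient.mk m : M ⧸ Q) = Submodule.Quotient.mk (z : M)
        rw [← hz, Submodule.Quotient.mk_add, (Submodule.Quotient.mk_eq_zero Q).mpr hq, zero_add,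
          Submodule.Quotient.mk_smul])
    have hex : Function.Exact ι π := by
      intro z
      simp only [π, LinearMap.comp_apply, LinearEquiv.coe_coe, LinearEquiv.map_eq_zero_iff]
      rw [Subtype.ext_iff]
      simp only [LinearMap.codRestrict_apply, LinearMap.comp_apply, Submodule.subtype_apply, Submodule.mkQ_apply,
        ZeroMemClass.coe_zero, Submodule.Quotient.mk_eq_zero]
      exact ⟨fun h => ⟨⟨_, h⟩, rfl⟩, fun ⟨w, hw⟩ => hw ▸ w.2⟩
    show P ∉ associatedPrimes B ↥Q'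
    intro h
    rcases associatedPrimes.subset_union_of_exact (Submodule.inclusion_injective _) hex h with h | h
    · exact hQ h
    · haveI := hp'
      rw [ass_quotient_prime] at h
      exact hne h.symm
  refine hsub.antisymm ?_
  haveI : Nontrivial (M ⧸ Q) := by
    rw [Submodule.Quotient.nontrivial_iff]
    intro h
    subst h
    exact hQ ((LinearEquiv.ofTop (⊤ : Submodule B M) rfl).isAssociatedPrime_iff.mpr hP)
  obtain ⟨P', hP'⟩ := associatedPrimes.nonempty B (M ⧸ Q)
  rintro _ rfl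
  exact (hsub hP') ▸ hP'

theorem radical_annihilator {B M : Type u} [CommRing B] [IsNoetherianRing B] [AddCommGroup M] [Module B M]
    [Module.Finite B M] {P : Ideal B} (hAss : associatedPrimes B M = {P}) :
    (Module.annihilator B M).radical = P := by
  rw [← Ideal.sInf_minimalPrimes]
  have hsub := hAss ▸ Module.associatedPrimes.minimalPrimes_annihilator_subset_associatedPrimes B M
  haveI : Nontrivial M := by
    by_contra h
    rw [not_nontrivial_iff_subsingleton] at h
    rw [associatedPrimes.eq_empty_of_subsingleton] at hAss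
    exact (Set.singleton_nonempty P).ne_empty hAss.symm
  obtain ⟨q, hq⟩ := Ideal.nonempty_minimalPrimes (I := Module.annihilator B M)
    fun h => not_subsingleton M (Module.annihilator_eq_top_iff.mp h)
  rw [(Set.eq_singleton_iff_unique_mem.mpr ⟨hsub hq ▸ hq, fun r hr => hsub hr⟩ :
    (Module.annihilator B M).minimalPrimes = {P}), sInf_singleton]

variable {A B : Type u} [CommRing A] [IsDomain A] [IsNoetherianRing A] [CommRing B] [Algebra A B]
  [Algebra.FiniteType A B]

theorem isNoetherianRing_fibre (K : Type u) [Field K] [Algebra A K] : IsNoetherianRing (K ⊗[A] B) :=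
  Algebra.FiniteType.isNoetherianRing K _

theorem map_le_iff_inc {K : Type u} [Field K] [Algebra A K] (P : Ideal B) (Q : Ideal (K ⊗[A] B)) :
    P.map (inc (A := A) (B := B) K) ≤ Q ↔ P ≤ Q.comap (inc (A := A) (B := B) K) := Ideal.map_le_iff_le_comap

/-- An ideal over the prime with trivial contraction is minimal over it. -/
theorem Norm.mem_minimalPrimes {P : Ideal B} (N : Norm (A := A) P) (K : Type u) [Field K] [Algebra A K]
    (hK : algebraMap A K N.a ≠ 0) (Q : Ideal (K ⊗[A] B)) [Q.IsPrime] (hQ : P ≤ Q.comap (inc (A := A) (B := B) K))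
    (hQ0 : Q.comap (N.φ K).toRingHom = ⊥) : Q ∈ (P.map (inc (A := A) (B := B) K)).minimalPrimes := by
  refine ⟨⟨inferInstance, (map_le_iff_inc P Q).mpr hQ⟩, fun Q' ⟨hQ', hle⟩ hQ'Q => ?_⟩
  haveI := hQ'
  let h := (Ideal.Quotient.mk Q').comp (N.φ K).toRingHom
  letI := h.toAlgebra
  haveI : Algebra.IsIntegral (K ⊗[A] MvPolynomial (Fin N.s) A) ((K ⊗[A] B) ⧸ Q') :=
    ⟨N.isIntegral_quotient K hK Q' ((map_le_iff_inc P Q').mp hle)⟩
  have hcomap : (Q.map (Ideal.Quotient.mk Q')).comap h = ⊥ := by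
    rw [← Ideal.comap_comap, Ideal.comap_map_of_surjective _ Ideal.Quotient.mk_surjective,
      ← RingHom.ker_eq_comap_bot, Ideal.mk_ker, sup_eq_left.mpr hQ'Q]
    exact hQ0
  have h0 := Ideal.eq_bot_of_comap_eq_bot (R := K ⊗[A] MvPolynomial (Fin N.s) A) hcomap
  intro x hx
  have : Ideal.Quotient.mk Q' x ∈ (⊥ : Ideal _) := h0 ▸ Ideal.mem_map_of_mem _ hx
  exact Ideal.Quotient.eq_zero_iff_mem.mp (Ideal.mem_bot.mp this)

theorem Norm.map_ne_top {P : Ideal B} (N : Norm (A := A) P) (K : Type u) [Field K] [Algebra A K]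
    (hK : algebraMap A K N.a ≠ 0) : P.map (inc (A := A) (B := B) K) ≠ ⊤ := by
  have hd := ConsProp93.ringKrullDim_tensor_eq ((Ideal.Quotient.mkₐ A P).comp N.g)
    (fun x y h => sub_eq_zero.mp (N.inj _ (by
      rw [map_sub]; exact Ideal.Quotient.eq.mp h))) N.a (fun b => by
      obtain ⟨b, rfl⟩ := Ideal.Quotient.mk_surjective b
      obtain ⟨n, hn⟩ := N.int b
      exact ⟨n, by rw [map_mul, map_pow] at hn; exact hn⟩) K hK
  intro htop
  let π : K ⊗[A] B →ₐ[A] K ⊗[A] (B ⧸ P) := Algebra.TensorProduct.map (AlgHom.id A K) (Ideal.Quotient.mkₐ A P)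
  have hle : P.map (inc (A := A) (B := B) K) ≤ RingHom.ker π.toRingHom := by
    rw [Ideal.map_le_iff_le_comap]
    intro b hb
    show π ((1 : K) ⊗ₜ[A] b) = 0
    rw [Algebra.TensorProduct.map_tmul, Ideal.Quotient.mkₐ_eq_mk, Ideal.Quotient.eq_zero_iff_mem.mpr hb,
      TensorProduct.tmul_zero]
  rw [htop] at hle
  have h10 : (1 : K ⊗[A] (B ⧸ P)) = 0 := (map_one π).symm.trans (hle (Submodule.mem_top (x := (1 : K ⊗[A] B))))
  haveI := subsingleton_of_zero_eq_one h10.symm
  rw [ringKrullDim_eq_bot_of_subsingleton] at hd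
  exact (WithBot.coe_ne_bot hd.symm)

theorem Norm.dim_quotient {P : Ideal B} (N : Norm (A := A) P) (K : Type u) [Field K] [Algebra A K]
    (hK : algebraMap A K N.a ≠ 0) (Q : Ideal (K ⊗[A] B)) [Q.IsPrime] (hQ : P ≤ Q.comap (inc (A := A) (B := B) K))
    (hQ0 : Q.comap (N.φ K).toRingHom = ⊥) : ringKrullDim ((K ⊗[A] B) ⧸ Q) = (N.s : WithBot ℕ∞) := by
  let h := (Ideal.Quotient.mk Q).comp (N.φ K).toRingHom
  letI := h.toAlgebra
  haveI : Algebra.IsIntegral (K ⊗[A] MvPolynomial (Fin N.s) A) ((K ⊗[A] B) ⧸ Q) :=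
    ⟨N.isIntegral_quotient K hK Q hQ⟩
  have hinj : RingHom.ker h = ⊥ := by
    rw [show h = (Ideal.Quotient.mk Q).comp (N.φ K).toRingHom from rfl, ← RingHom.comap_ker, Ideal.mk_ker]
    exact hQ0
  rw [ConsProp93.ringKrullDim_eq_of_integral_surjective (K ⊗[A] MvPolynomial (Fin N.s) A) _ fun q => ?_,
    ringKrullDim_eq_of_ringEquiv (MvPolynomial.algebraTensorAlgEquiv A K).toRingEquiv,
    MvPolynomial.ringKrullDim_of_isNoetherianRing, ringKrullDim_eq_zero_of_field, Nat.card_fin, zero_add]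
  obtain ⟨Q', -, hQ', hq⟩ := Ideal.exists_ideal_over_prime_of_isIntegral (S := (K ⊗[A] B) ⧸ Q) q.asIdeal ⊥
    (by rw [← RingHom.ker_eq_comap_bot]; exact hinj.le.trans bot_le)
  exact ⟨⟨Q', hQ'⟩, PrimeSpectrum.ext hq⟩

/-- A minimal prime over the prime is associated to the fibre of the quotient. -/
theorem mem_ass_quotient (P : Ideal B) (K : Type u) [Field K] [Algebra A K] {Q : Ideal (K ⊗[A] B)}
    (hQ : Q ∈ (P.map (inc (A := A) (B := B) K)).minimalPrimes) :
    Q ∈ associatedPrimes (K ⊗[A] B) ((K ⊗[A] B) ⊗[B] (B ⧸ P)) := by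
  haveI := isNoetherianRing_fibre (A := A) (B := B) K
  let R := K ⊗[A] B
  suffices h : Module.annihilator R (R ⊗[B] (B ⧸ P)) = P.map (inc (A := A) (B := B) K) from
    Module.associatedPrimes.minimalPrimes_annihilator_subset_associatedPrimes R _ (h ▸ hQ)
  refine le_antisymm (fun r hr => ?_) ?_
  · have h1 := Module.mem_annihilator.mp hr ((1 : R) ⊗ₜ[B] (Ideal.Quotient.mk P (1 : B)))
    rw [TensorProduct.smul_tmul', smul_eq_mul, mul_one] at h1
    have h2 := congrArg (TensorProduct.tensorQuotEquivQuotSMul (R := B) R P) h1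
    rw [map_zero, TensorProduct.tensorQuotEquivQuotSMul_tmul_mk, one_smul, Submodule.Quotient.mk_eq_zero,
      Ideal.smul_top_eq_map] at h2
    exact h2
  · rw [Ideal.map_le_iff_le_comap]
    intro b hb
    rw [Ideal.mem_comap, Module.mem_annihilator]
    intro z
    induction z using TensorProduct.induction_on with
    | zero => simp
    | add x y hx hy => rw [smul_add, hx, hy, add_zero]
    | tmul r x =>
      rw [show (inc K : B →+* R) b • r ⊗ₜ[B] x = b • (r ⊗ₜ[B] x) from algebraMap_smul R b _,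
        ← TensorProduct.tmul_smul]
      obtain ⟨x, rfl⟩ := Ideal.Quotient.mk_surjective x
      rw [show b • Ideal.Quotient.mk P x = 0 from Ideal.Quotient.eq_zero_iff_mem.mpr (P.mul_mem_right _ hb),
        TensorProduct.tmul_zero]

/-- The data attached to a generic associated prime. -/
theorem exists_forall_generic {M : Type u} [AddCommGroup M] [Module A M] [Module B M] [IsScalarTower A B M]
    [Module.Finite B M] (P : Ideal B) (hP : P ∈ associatedPrimes B M) (hPA : P.comap (algebraMap A B) = ⊥)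
    (Q₀ : Submodule B M) (hQ₀ : associatedPrimes B (M ⧸ Q₀) = {P}) :
    ∃ (f : A) (d : ℕ), f ≠ 0 ∧ ∀ (K : Type u) [Field K] [Algebra A K], algebraMap A K f ≠ 0 →
      (∀ Q ∈ associatedPrimes (K ⊗[A] B) ((K ⊗[A] B) ⊗[B] (M ⧸ Q₀)), Q ∈ (P.map (inc (A := A) (B := B) K)).minimalPrimes) ∧
      (P.map (inc (A := A) (B := B) K)).minimalPrimes.Nonempty ∧
      (∀ Q ∈ (P.map (inc (A := A) (B := B) K)).minimalPrimes, ringKrullDim ((K ⊗[A] B) ⧸ Q) = (d : WithBot ℕ∞) ∧
        Q ∈ associatedPrimes (K ⊗[A] B) ((K ⊗[A] B) ⊗[B] M)) ∧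
      (∀ P' ∈ associatedPrimes B M, ¬ P' ≤ P → ∀ Q ∈ (P.map (inc (A := A) (B := B) K)).minimalPrimes, ¬ P'.map (inc (A := A) (B := B) K) ≤ Q) := by
  classical
  haveI : IsNoetherianRing B := Algebra.FiniteType.isNoetherianRing A B
  haveI := hP.isPrime
  obtain ⟨N⟩ := nonempty_norm P hPA
  obtain ⟨f₁, hf₁, h₁⟩ := exists_forall_ass_coprimary (M := M ⧸ Q₀) P hQ₀ N
  obtain ⟨f₂, hf₂, h₂⟩ := exists_forall_ass_coprimary (M := B ⧸ P) P
    (ass_quotient_prime P) N
  obtain ⟨hp, i, hi⟩ := (isAssociatedPrime_iff_exists_injective_linearMap P M).mp hP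
  obtain ⟨f₃, hf₃, hfree, -⟩ := FlatCrit65.generic_freeness (R := A) (S := B) (M := M ⧸ LinearMap.range i)
  have hc : ∀ P' : associatedPrimes B M, ¬ P'.1 ≤ P →
      ∃ c : MvPolynomial (Fin N.s) A, c ≠ 0 ∧ N.g c ∈ P'.1 ⊔ P := by
    intro P' hle
    obtain ⟨b, hb, hbP⟩ := SetLike.not_le_iff_exists.mp hle
    obtain ⟨n, hn⟩ := N.int b
    letI : Algebra (MvPolynomial (Fin N.s) A) (B ⧸ P) := ((Ideal.Quotient.mk P).comp N.g.toRingHom).toAlgebra
    have ha : algebraMap A B N.a ∉ P := fun h => N.ha (by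
      have : N.a ∈ P.comap (algebraMap A B) := h
      rwa [hPA] at this)
    have hne : Ideal.Quotient.mk P (algebraMap A B N.a ^ n * b) ≠ 0 := fun h => by
      rcases hp.mem_or_mem (Ideal.Quotient.eq_zero_iff_mem.mp h) with h | h
      · exact ha (hp.mem_of_pow_mem n h)
      · exact hbP h
    obtain ⟨c, hc0, t, ht⟩ := (IsIntegral.isAlgebraic (R := MvPolynomial (Fin N.s) A) hn).exists_nonzero_dvd
      (mem_nonZeroDivisors_of_ne_zero hne)
    obtain ⟨t, rfl⟩ := Ideal.Quotient.mk_surjective t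
    refine ⟨c, hc0, ?_⟩
    have h3 : N.g c - algebraMap A B N.a ^ n * b * t ∈ P := Ideal.Quotient.eq.mp (by
      rw [map_mul _ _ t]; exact ht)
    have h4 : algebraMap A B N.a ^ n * b * t ∈ P'.1 := Ideal.mul_mem_right _ _ (Ideal.mul_mem_left _ _ hb)
    rw [show N.g c = algebraMap A B N.a ^ n * b * t + (N.g c - algebraMap A B N.a ^ n * b * t) by ring]
    exact Submodule.add_mem_sup h4 h3
  choose c hc0 hcmem using hc
  have hco : ∀ (P' : associatedPrimes B M) (h : ¬ P'.1 ≤ P), ∃ m, (c P' h).coeff m ≠ 0 :=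
    fun P' h => by
      by_contra h'
      push Not at h'
      exact hc0 P' h (MvPolynomial.ext _ _ (by simpa using h'))
  choose m hm using hco
  haveI : Fintype (associatedPrimes B M) := (associatedPrimes.finite B M).fintype
  let coef : associatedPrimes B M → A := fun P' => if h : ¬ P'.1 ≤ P then (c P' h).coeff (m P' h) else 1
  have hcoef : ∀ P', coef P' ≠ 0 := fun P' => by
    simp only [coef]; split
    · exact hm _ _
    · exact one_ne_zero
  refine ⟨N.a * f₁ * f₂ * f₃ * ∏ P', coef P', N.s,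
    mul_ne_zero (mul_ne_zero (mul_ne_zero (mul_ne_zero N.ha hf₁) hf₂) hf₃)
      (Finset.prod_ne_zero_iff.mpr fun P' _ => hcoef P'), fun K _ _ hK => ?_⟩
  simp only [map_mul, map_prod, mul_ne_zero_iff, Finset.prod_ne_zero_iff, Finset.mem_univ, true_implies] at hK
  obtain ⟨⟨⟨⟨hKa, hK₁⟩, hK₂⟩, hK₃⟩, hKc⟩ := hK
  haveI := isNoetherianRing_fibre (A := A) (B := B) K
  have hmin : ∀ Q ∈ (P.map (inc (A := A) (B := B) K)).minimalPrimes,
      Q ∈ associatedPrimes (K ⊗[A] B) ((K ⊗[A] B) ⊗[B] (B ⧸ P)) ∧ P ≤ Q.comap (inc (A := A) (B := B) K) ∧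
        Q.comap (N.φ K).toRingHom = ⊥ :=
    fun Q hQ => ⟨mem_ass_quotient P K hQ, h₂ K hK₂ Q (mem_ass_quotient P K hQ)⟩
  refine ⟨fun Q hQ => ?_, Set.nonempty_coe_sort.mp (Ideal.nonempty_minimalPrimes (N.map_ne_top K hKa)), fun Q hQ => ⟨?_, ?_⟩,
    fun P' hP' hle Q hQ hP'Q => ?_⟩
  · obtain ⟨h, h'⟩ := h₁ K hK₁ Q hQ
    haveI := hQ.isPrime
    exact N.mem_minimalPrimes K hKa Q h h'
  · haveI := hQ.isPrime
    exact N.dim_quotient K hKa Q (hmin Q hQ).2.1 (hmin Q hQ).2.2
  · have hiK : Function.Injective (i.lTensor (K ⊗[A] B)) := by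
      refine lTensor_injective K _ i (Cons62.baseChange_injective_of_freeAway (i.restrictScalars A) hi
        (hfree.of_equiv ?_) K (isUnit_iff_ne_zero.mpr hK₃))
      exact (Submodule.Quotient.restrictScalarsEquiv A (LinearMap.range i)).symm ≪≫ₗ
        Submodule.quotEquivOfEq _ _ (LinearMap.range_restrictScalars i).symm
    exact associatedPrimes.subset_of_injective (f := TensorProduct.AlgebraTensorModule.map (LinearMap.id :
      (K ⊗[A] B) →ₗ[K ⊗[A] B] (K ⊗[A] B)) i) hiK (hmin Q hQ).1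
  · obtain ⟨hmap, hcK⟩ := (hmin Q hQ).2
    have hmem : N.g (c ⟨P', hP'⟩ hle) ∈ Q.comap (inc (A := A) (B := B) K) :=
      (sup_le ((map_le_iff_inc P' Q).mp hP'Q) hmap) (hcmem ⟨P', hP'⟩ hle)
    have h0 : (1 : K) ⊗ₜ[A] c ⟨P', hP'⟩ hle ∈ Q.comap (N.φ K).toRingHom := by
      rw [Ideal.mem_comap, AlgHom.toRingHom_eq_coe, RingHom.coe_coe, Norm.φ, Algebra.TensorProduct.map_tmul]
      exact hmem
    rw [hcK, Ideal.mem_bot] at h0
    have h1 := congrArg (MvPolynomial.algebraTensorAlgEquiv A K) h0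
    rw [map_zero, MvPolynomial.algebraTensorAlgEquiv_tmul, one_smul] at h1
    have h2 := congrArg (MvPolynomial.coeff (m ⟨P', hP'⟩ hle)) h1
    rw [MvPolynomial.coeff_map, MvPolynomial.coeff_zero] at h2
    have h3 := hKc ⟨P', hP'⟩
    simp only [coef, dif_pos hle] at h3
    exact h3 h2

/-- The associated primes of the fibres near the generic point. -/
theorem exists_generic_ass {M : Type u} [AddCommGroup M] [Module A M] [Module B M] [IsScalarTower A B M]
    [Module.Finite B M] :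
    ∃ (f : A) (d : Ideal B → ℕ), f ≠ 0 ∧ ∀ (K : Type u) [Field K] [Algebra A K], algebraMap A K f ≠ 0 →
      (∀ Q, Q ∈ associatedPrimes (K ⊗[A] B) ((K ⊗[A] B) ⊗[B] M) ↔
        ∃ P ∈ associatedPrimes B M, P.comap (algebraMap A B) = ⊥ ∧ Q ∈ (P.map (inc (A := A) (B := B) K)).minimalPrimes) ∧
      ∀ P ∈ associatedPrimes B M, P.comap (algebraMap A B) = ⊥ →
        (P.map (inc (A := A) (B := B) K)).minimalPrimes.Nonempty ∧
        (∀ Q ∈ (P.map (inc (A := A) (B := B) K)).minimalPrimes, ringKrullDim ((K ⊗[A] B) ⧸ Q) = (d P : WithBot ℕ∞)) ∧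
        (∀ P' ∈ associatedPrimes B M, ¬ P' ≤ P → ∀ Q ∈ (P.map (inc (A := A) (B := B) K)).minimalPrimes, ¬ P'.map (inc (A := A) (B := B) K) ≤ Q) := by
  classical
  haveI : IsNoetherianRing B := Algebra.FiniteType.isNoetherianRing A B
  haveI : Fintype (associatedPrimes B M) := (associatedPrimes.finite B M).fintype
  choose Q₀ hQ₀ hQ₀' using fun P : associatedPrimes B M => exists_coprimary_quotient P.2
  have hdat : ∀ P : associatedPrimes B M, ∃ (f : A) (d : ℕ), f ≠ 0 ∧ ∀ (K : Type u) [Field K] [Algebra A K],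
      algebraMap A K f ≠ 0 → if P.1.comap (algebraMap A B) = ⊥ then
      (∀ Q ∈ associatedPrimes (K ⊗[A] B) ((K ⊗[A] B) ⊗[B] (M ⧸ Q₀ P)), Q ∈ (P.1.map (inc (A := A) (B := B) K)).minimalPrimes) ∧
      (P.1.map (inc (A := A) (B := B) K)).minimalPrimes.Nonempty ∧
      (∀ Q ∈ (P.1.map (inc (A := A) (B := B) K)).minimalPrimes, ringKrullDim ((K ⊗[A] B) ⧸ Q) = (d : WithBot ℕ∞) ∧
        Q ∈ associatedPrimes (K ⊗[A] B) ((K ⊗[A] B) ⊗[B] M)) ∧
      (∀ P' ∈ associatedPrimes B M, ¬ P' ≤ P.1 → ∀ Q ∈ (P.1.map (inc (A := A) (B := B) K)).minimalPrimes, ¬ P'.map (inc (A := A) (B := B) K) ≤ Q)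
      else Subsingleton ((K ⊗[A] B) ⊗[B] (M ⧸ Q₀ P)) := by
    intro P
    by_cases hPA : P.1.comap (algebraMap A B) = ⊥
    · obtain ⟨f, d, hf, h⟩ := exists_forall_generic P.1 P.2 hPA (Q₀ P) (hQ₀ P)
      exact ⟨f, d, hf, fun K _ _ hK => by rw [if_pos hPA]; exact h K hK⟩
    · obtain ⟨a, ha, ha0⟩ := Submodule.exists_mem_ne_zero_of_ne_bot hPA
      have har : algebraMap A B a ∈ (Module.annihilator B (M ⧸ Q₀ P)).radical := by
        rw [radical_annihilator (hQ₀ P)]; exact ha
      obtain ⟨e, he⟩ := har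
      refine ⟨a, 0, ha0, fun K _ _ hK => ?_⟩
      rw [if_neg hPA]
      refine (fibreEquiv K (M ⧸ Q₀ P)).toEquiv.subsingleton_congr.mpr (subsingleton_of_forall_eq 0 fun z => ?_)
      induction z using TensorProduct.induction_on with
      | zero => rfl
      | add x y hx hy => rw [hx, hy, add_zero]
      | tmul t l =>
        have h0 : a ^ e • t = 0 := by
          rw [← algebraMap_smul B (a ^ e), map_pow]
          exact Module.mem_annihilator.mp he t
        calc t ⊗ₜ[A] l = t ⊗ₜ[A] ((a ^ e) • ((algebraMap A K a)⁻¹ ^ e * l)) := by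
              rw [Algebra.smul_def, map_pow, ← mul_assoc, ← mul_pow, mul_inv_cancel₀ hK, one_pow, one_mul]
          _ = 0 := by rw [← TensorProduct.smul_tmul, h0, TensorProduct.zero_tmul]
  choose f d hf hd using hdat
  let q : M →ₗ[B] (∀ P : associatedPrimes B M, M ⧸ Q₀ P) := LinearMap.pi fun P => (Q₀ P).mkQ
  have hq : Function.Injective q := by
    rw [← LinearMap.ker_eq_bot]
    by_contra hne
    haveI : Nontrivial (LinearMap.ker q) := Submodule.nontrivial_iff_ne_bot.mpr hne
    obtain ⟨P, hP⟩ := associatedPrimes.nonempty B (LinearMap.ker q)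
    have hPM := associatedPrimes.subset_of_injective (Submodule.subtype_injective _) hP
    refine hQ₀' ⟨P, hPM⟩ (associatedPrimes.subset_of_injective
      (Submodule.inclusion_injective (fun x hx => ?_ : LinearMap.ker q ≤ Q₀ ⟨P, hPM⟩)) hP)
    have := congrFun (LinearMap.mem_ker.mp hx) ⟨P, hPM⟩
    exact (Submodule.Quotient.mk_eq_zero _).mp this
  obtain ⟨f₀, hf₀, hfree, -⟩ := FlatCrit65.generic_freeness (R := A) (S := B)
    (M := (∀ P : associatedPrimes B M, M ⧸ Q₀ P) ⧸ LinearMap.range q)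
  refine ⟨f₀ * ∏ P, f P, fun P => if h : P ∈ associatedPrimes B M then d ⟨P, h⟩ else 0,
    mul_ne_zero hf₀ (Finset.prod_ne_zero_iff.mpr fun P _ => hf P), fun K _ _ hK => ?_⟩
  simp only [map_mul, map_prod, mul_ne_zero_iff, Finset.prod_ne_zero_iff, Finset.mem_univ, true_implies] at hK
  obtain ⟨hK₀, hKf⟩ := hK
  haveI := isNoetherianRing_fibre (A := A) (B := B) K
  have hgen : ∀ P : associatedPrimes B M, P.1.comap (algebraMap A B) = ⊥ → _ := fun P hPA =>
    (if_pos hPA).mp (hd P K (hKf P))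
  refine ⟨fun Q => ⟨fun hQ => ?_, fun ⟨P, hP, hPA, hQ⟩ => ((hgen ⟨P, hP⟩ hPA).2.2.1 Q hQ).2⟩,
    fun P hP hPA => ⟨(hgen ⟨P, hP⟩ hPA).2.1, fun Q hQ => ?_, (hgen ⟨P, hP⟩ hPA).2.2.2⟩⟩
  · obtain ⟨hQp, z, hz⟩ := isAssociatedPrime_iff.mp hQ
    let R := K ⊗[A] B
    have hqK : Function.Injective (q.lTensor R) := by
      refine lTensor_injective K _ q (Cons62.baseChange_injective_of_freeAway (q.restrictScalars A) hq
        (hfree.of_equiv ?_) K (isUnit_iff_ne_zero.mpr hK₀))
      exact (Submodule.Quotient.restrictScalarsEquiv A (LinearMap.range q)).symm ≪≫ₗ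
        Submodule.quotEquivOfEq _ _ (LinearMap.range_restrictScalars q).symm
    let π := fun P : associatedPrimes B M => (TensorProduct.AlgebraTensorModule.map
      (LinearMap.id : R →ₗ[R] R) (Q₀ P).mkQ)
    have hjoint : ∀ w, (∀ P, π P w = 0) → w = 0 := by
      intro w hw
      have key : ∀ (w : R ⊗[B] M) P, TensorProduct.piRight B R R _ (q.lTensor R w) P = π P w := fun w P => by
        induction w using TensorProduct.induction_on with
        | zero => simp
        | add x y hx hy => simp only [map_add, Pi.add_apply, hx, hy]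
        | tmul r x => simp [π, q]
      refine hqK ((TensorProduct.piRight B R R _).injective ?_)
      funext P
      rw [key, hw P, map_zero, map_zero, Pi.zero_apply]
    have hinf : (Finset.univ.inf fun P => (⊥ : Submodule R _).colon {π P z}) ≤ Q := by
      intro r hr
      rw [Submodule.mem_finsetInf] at hr
      rw [hz, Submodule.mem_colon_singleton, Submodule.mem_bot]
      refine hjoint _ fun P => ?_
      rw [map_smul]
      simpa [Submodule.mem_colon_singleton] using hr P (Finset.mem_univ P)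
    obtain ⟨P, -, hle⟩ := hQp.inf_le'.mp hinf
    have heq : Q = (⊥ : Submodule R _).colon {π P z} := by
      refine le_antisymm (fun r hr => ?_) hle
      rw [hz, Submodule.mem_colon_singleton, Submodule.mem_bot] at hr
      rw [Submodule.mem_colon_singleton, Submodule.mem_bot, ← map_smul, hr, map_zero]
    have hQP : Q ∈ associatedPrimes R (R ⊗[B] (M ⧸ Q₀ P)) := isAssociatedPrime_iff.mpr ⟨hQp, _, heq⟩
    by_cases hPA : P.1.comap (algebraMap A B) = ⊥
    · exact ⟨P.1, P.2, hPA, (hgen P hPA).1 Q hQP⟩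
    · haveI := (if_neg hPA).mp (hd P K (hKf P))
      rw [associatedPrimes.eq_empty_of_subsingleton] at hQP
      exact absurd hQP (Set.notMem_empty _)
  · simp only [dif_pos hP]
    exact ((hgen ⟨P, hP⟩ hPA).2.2.1 Q hQ).1

end Groth.Agent.FBase64.AssFibre
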