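import Groth.Agent.FBase64.AssFibre.Scheme
import Groth.Agent.FBase64.IntegralModField
import Groth.Agent.ConsProp93.Approx
import Groth.Agent.ConsProp93.DimScheme

/-! Absence of embedded points in the fibres. -/

set_option autoImplicit false
set_option linter.style.haveILetI false
set_option backward.isDefEq.respectTransparency false
universe u

open CategoryTheory CategoryTheory.Limits AlgebraicGeometry TensorProduct
open Groth.Agent.Div89 Groth.Agent.FBase64.AssSheaf Groth.Agent.FBase64.AssTensor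
open Groth.Agent.FBase64.RedField

namespace Groth.Agent.FBase64.AssFibre

variable {X S : Scheme.{u}} (f : X ⟶ S) (F : X.Modules)

theorem mem_assFib_iff (s : S) (z : f.fiber s) :
    f.fiberι s z ∈ assFib f F s ↔ z ∈ AssSch.Ass ((Scheme.Modules.pullback (f.fiberι s)).obj F) :=
  (f.fiberι s).isEmbedding.injective.mem_set_image

theorem fiberι_specializes (s : S) {z z' : f.fiber s} :
    f.fiberι s z ⤳ f.fiberι s z' ↔ z ⤳ z' :=
  (f.fiberι s).isEmbedding.isInducing.specializes_iff

theorem exists_fiber_pt {s : S} {y : X} (h : f y = s) : ∃ z, f.fiberι s z = y :=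
  (f.range_fiberι s).ge h

theorem minOver_iff_maximal (s : S) (x : X) (z : f.fiber s) :
    MinOver f s x (f.fiberι s z) ↔ z ∈ ((f.fiberι s).base ⁻¹' closure {x}) ∧
      ∀ z' ∈ ((f.fiberι s).base ⁻¹' closure {x}), z' ⤳ z → z' = z := by
  have hmem : ∀ w : f.fiber s, w ∈ ((f.fiberι s).base ⁻¹' closure {x}) ↔ x ⤳ f.fiberι s w :=
    fun w => specializes_iff_mem_closure.symm
  simp only [hmem]
  constructor
  · rintro ⟨-, hxz, hm⟩
    exact ⟨hxz, fun w hw hwz => (f.fiberι s).isEmbedding.injective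
      (hm _ (fiberι_over f s w) hw ((fiberι_specializes f s).mpr hwz))⟩
  · rintro ⟨hxz, hm⟩
    refine ⟨fiberι_over f s z, hxz, fun w hws hxw hwz => ?_⟩
    obtain ⟨w, rfl⟩ := exists_fiber_pt f hws
    rw [hm w hxw ((fiberι_specializes f s).mp hwz)]

theorem minOver_generic [IrreducibleSpace S] {x y : X} (hx : x ∈ genAss f F) :
    MinOver f (genericPoint S) x y ↔ x = y := by
  constructor
  · exact fun h => h.2.2 x hx.2 specializes_rfl h.2.1
  · rintro rfl
    exact ⟨hx.2, specializes_rfl, fun z _ h h' => h'.antisymm h |>.eq⟩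

variable {f F} [IsIntegral S]

theorem assFib_generic {U : S.Opens} (hU : genericPoint S ∈ U)
    (hA : ∀ s ∈ U, ∀ y, f y = s → (y ∈ assFib f F s ↔ ∃ x ∈ genAss f F, MinOver f s x y)) :
    assFib f F (genericPoint S) = genAss f F := by
  ext y
  constructor
  · intro hy
    obtain ⟨a, ha, rfl⟩ := hy
    obtain ⟨x, hx, h⟩ := (hA _ hU _ (fiberι_over f _ a)).mp ⟨a, ha, rfl⟩
    rw [← (minOver_generic f F hx).mp h]
    exact hx
  · intro hy
    exact (hA _ hU y hy.2).mpr ⟨y, hy, (minOver_generic f F hy).mpr rfl⟩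

theorem eq_of_minOver {U : S.Opens}
    (hle : ∀ s ∈ U, ∀ x ∈ genAss f F, ∀ x' ∈ genAss f F, ∀ y, MinOver f s x y → x' ⤳ y → x' ⤳ x)
    {s : S} (hs : s ∈ U) {x x' y : X} (hx : x ∈ genAss f F) (hx' : x' ∈ genAss f F) (h : MinOver f s x y)
    (h' : MinOver f s x' y) : x = x' :=
  ((hle s hs x' hx' x hx y h' h.2.1).antisymm (hle s hs x hx x' hx' y h h'.2.1)).eq

/-- The three statements about associated points near the generic fibre. -/
theorem exists_nhd_ass [IsNoetherian S] (f : X ⟶ S) [LocallyOfFiniteType f] [QuasiCompact f] (F : X.Modules)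
    (hF : Coh.IsCoh F) :
    ∃ U : S.Opens, genericPoint S ∈ U ∧ assFib f F (genericPoint S) = genAss f F ∧ ∀ s ∈ U,
      (∀ y, f y = s → (y ∈ assFib f F s ↔ ∃ x ∈ genAss f F, MinOver f s x y)) ∧
      (∀ x ∈ genAss f F, ∃ y, MinOver f s x y) ∧
      (∀ x ∈ genAss f F, ∀ x' ∈ genAss f F, ∀ y, MinOver f s x y → MinOver f s x' y → x = x') ∧
      (∀ x ∈ genAss f F, ∀ y, MinOver f s x y →
        ((∀ w ∈ assFib f F s, w ⤳ y → w = y) ↔ ∀ x' ∈ genAss f F, x' ⤳ x → x' = x)) := by
  haveI : Coh.IsQCoh F := hF.1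
  haveI := LocallyOfFiniteType.isLocallyNoetherian f
  obtain ⟨U, hU, h⟩ := exists_good f F hF
  have hA := fun s hs => (h s hs).1
  have hle := fun s hs => (h s hs).2.2
  refine ⟨U, hU, assFib_generic hU hA, fun s hs => ⟨hA s hs, (h s hs).2.1,
    fun x hx x' hx' y h1 h2 => eq_of_minOver hle hs hx hx' h1 h2, fun x hx y hy => ⟨fun hmax x' hx' hsp => ?_,
      fun hmax w hw hwy => ?_⟩⟩⟩
  · obtain ⟨w, hw, hwy⟩ := exists_minOver f hy.1 (hsp.trans hy.2.1)
    obtain rfl := hmax w ((hA s hs w hw.1).mpr ⟨x', hx', hw⟩) hwy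
    exact eq_of_minOver hle hs hx' hx hw hy
  · have hws : f w = s := by obtain ⟨a, -, rfl⟩ := hw; exact fiberι_over f s a
    obtain ⟨x', hx', hw'⟩ := (hA s hs w hws).mp hw
    obtain rfl := hmax x' hx' (hle s hs x hx x' hx' y hy (hw'.2.1.trans hwy))
    exact hy.2.2 w hws hw'.2.1 hwy

theorem noEmbedded_iff_assFib (f : X ⟶ S) (F : X.Modules) (s : S) :
    AssSch.NoEmbedded ((Scheme.Modules.pullback (f.fiberι s)).obj F) ↔
      ∀ y ∈ assFib f F s, ∀ w ∈ assFib f F s, w ⤳ y → w = y := by
  constructor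
  · rintro h _ ⟨a, ha, rfl⟩ _ ⟨b, hb, rfl⟩ hsp
    rw [h a ha b hb ((fiberι_specializes f s).mp hsp)]
  · intro h a ha b hb hsp
    exact (f.fiberι s).isEmbedding.injective
      (h _ ⟨a, ha, rfl⟩ _ ⟨b, hb, rfl⟩ ((fiberι_specializes f s).mpr hsp)).symm

/-- Near the generic point there are embedded points exactly when there are generically. -/
theorem exists_nhd_noEmbedded_iff [IsNoetherian S] (f : X ⟶ S) [LocallyOfFiniteType f] [QuasiCompact f]
    (F : X.Modules) (hF : Coh.IsCoh F) :
    ∃ U : S.Opens, genericPoint S ∈ U ∧ ∀ s ∈ U,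
      (AssSch.NoEmbedded ((Scheme.Modules.pullback (f.fiberι s)).obj F) ↔
        AssSch.NoEmbedded ((Scheme.Modules.pullback (f.fiberι (genericPoint S))).obj F)) := by
  obtain ⟨U, hU, hη, h⟩ := exists_nhd_ass f F hF
  refine ⟨U, hU, fun s hs => ?_⟩
  obtain ⟨hA, hex, -, hmax⟩ := h s hs
  rw [noEmbedded_iff_assFib, noEmbedded_iff_assFib, hη]
  constructor
  · intro hne x hx x' hx' hsp
    obtain ⟨y, hy⟩ := hex x hx
    exact (hmax x hx y hy).mp (fun w hw => hne y ((hA y hy.1).mpr ⟨x, hx, hy⟩) w hw) x' hx' hsp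
  · intro hne y hy w hw hsp
    have hys : f y = s := by obtain ⟨a, -, rfl⟩ := hy; exact fiberι_over f s a
    obtain ⟨x, hx, hxy⟩ := (hA y hys).mp hy
    exact (hmax x hx y hxy).mpr (fun x' hx' => hne x hx x' hx') w hw hsp

/-- Invariance of the absence of embedded points under extension of the base field. -/
theorem isFieldStableMod_noEmbedded :
    ConsProp.IsFieldStableMod.{u} (fun Y _ _ F => AssSch.NoEmbedded (X := Y) F) := by
  intro Y Y' T T' g g' e h _ _ _ _ _ _ hsq F F' hF iso
  haveI : IsLocallyNoetherian T := by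
    obtain ⟨t⟩ : Nonempty T := inferInstance
    have := ConsProp93.isIso_fromSpecResidueField T t
    exact isLocallyNoetherian_of_isOpenImmersion (inv (T.fromSpecResidueField t))
  haveI : IsLocallyNoetherian T' := by
    obtain ⟨t⟩ : Nonempty T' := inferInstance
    have := ConsProp93.isIso_fromSpecResidueField T' t
    exact isLocallyNoetherian_of_isOpenImmersion (inv (T'.fromSpecResidueField t))
  haveI : LocallyOfFiniteType g' := MorphismProperty.of_isPullback hsq ‹_›
  haveI := LocallyOfFiniteType.isLocallyNoetherian g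
  haveI := LocallyOfFiniteType.isLocallyNoetherian g'
  obtain ⟨t⟩ : Nonempty T := inferInstance
  obtain ⟨t'⟩ : Nonempty T' := inferInstance
  haveI := ConsProp93.isIso_fromSpecResidueField T t
  haveI := ConsProp93.isIso_fromSpecResidueField T' t'
  haveI : Flat h := by
    let φ := Spec.preimage (T'.fromSpecResidueField t' ≫ h ≫ inv (T.fromSpecResidueField t))
    have hφ : h = inv (T'.fromSpecResidueField t') ≫ Spec.map φ ≫ T.fromSpecResidueField t := by
      simp [φ, Spec.map_preimage]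
    haveI : Flat (Spec.map φ) := by
      rw [HasRingHomProperty.Spec_iff (P := @Flat)]
      letI : Algebra (T.residueField t) (T'.residueField t') := φ.hom.toAlgebra
      exact RingHom.flat_algebraMap_iff.mpr inferInstance
    rw [hφ]; infer_instance
  haveI : Surjective h := ConsProp93.surjective_of_subsingleton h
  haveI : Flat e := MorphismProperty.of_isPullback hsq.flip ‹_›
  haveI : Surjective e := MorphismProperty.of_isPullback hsq.flip ‹_›
  have hfib : ∀ y : Y, AssSch.NoEmbedded (Coh.structureModule (e.fiber y)) := by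
    intro y
    let j : e.fiber y ≅ pullback (Y.fromSpecResidueField y ≫ g) (T'.fromSpecResidueField t' ≫ h) := by
      refine (pullbackSymmetry _ _) ≪≫ ?_
      exact ((IsPullback.of_hasPullback (Y.fromSpecResidueField y) e).paste_vert hsq |>.isoPullback) ≪≫
        (asIso (pullback.map _ _ (Y.fromSpecResidueField y ≫ g) h (𝟙 _) (T'.fromSpecResidueField t') (𝟙 _)
          (by simp) (by simp))).symm
    intro a ha b hb hsp
    have h1 := noEmbedded_residueProduct hsq y t' (j.hom a) ((mem_ass_structure_iso j.hom a).mp ha)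
      (j.hom b) ((mem_ass_structure_iso j.hom b).mp hb) (hsp.map j.hom.continuous)
    exact j.hom.isEmbedding.injective h1
  show AssSch.NoEmbedded F ↔ AssSch.NoEmbedded F'
  rw [noEmbedded_congr iso, ← noEmbedded_congr (EGA73.tensUnitRight ((Scheme.Modules.pullback e).obj F)),
    noEmbedded_pullTensor_iff e F hF.1 _ (isCoh_structure Y') (isFlatOver_structure e)]
  constructor
  · rintro hne y ⟨hy, -⟩
    refine ⟨fun y' hy' hsp => (hne y hy y' hy' hsp).symm, ?_⟩
    rw [noEmbedded_congr (PicLoc.pullbackStructureIso (e.fiberι y))]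
    exact hfib y
  · intro hall y hy y' hy' hsp
    obtain ⟨z, rfl⟩ := e.surjective y
    refine ((hall (e z) ⟨hy, z, ?_, rfl⟩).1 y' hy' hsp).symm
    show ¬ Subsingleton _
    rw [← (QC70.unitStalkEquiv z).toEquiv.subsingleton_congr, not_subsingleton_iff_nontrivial]
    infer_instance

theorem isConsMod_noEmbedded : ConsProp.IsConsMod.{u} (fun Y _ _ F => AssSch.NoEmbedded (X := Y) F) := by
  refine ⟨isFieldStableMod_noEmbedded, fun X S f _ _ _ _ F hF => ?_⟩
  obtain ⟨U, hU, h⟩ := exists_nhd_noEmbedded_iff f F hF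
  by_cases hη : AssSch.NoEmbedded ((Scheme.Modules.pullback (f.fiberι (genericPoint S))).obj F)
  · exact .inl ⟨_, interior_maximal (fun s hs => (h s hs).mpr hη) U.2 hU⟩
  · exact .inr ⟨_, interior_maximal (fun s hs hne => hη ((h s hs).mp hne)) U.2 hU⟩

end Groth.Agent.FBase64.AssFibre
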