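import Groth.Agent.FBase64.AssFibre.Main
import Groth.Agent.FBase64.AssTensor.Scheme
import Groth.Agent.QC70.FiniteType
import Mathlib.AlgebraicGeometry.Morphisms.FiniteType
import Mathlib.AlgebraicGeometry.FunctionField
import Mathlib.RingTheory.LocalRing.ResidueField.Fiber

/-! Associated points of the fibres near the generic point of the base. -/

set_option autoImplicit false
set_option linter.style.haveILetI false
set_option backward.isDefEq.respectTransparency false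
universe u

open CategoryTheory CategoryTheory.Limits AlgebraicGeometry TensorProduct
open Groth.Agent.Div89 Groth.Agent.FBase64.AssSheaf Groth.Agent.FBase64.AssTensor

namespace Groth.Agent.FBase64.AssFibre

attribute [local instance] Algebra.TensorProduct.rightAlgebra

variable {X S : Scheme.{u}} (f : X ⟶ S) (F : X.Modules)

/-- The associated points of the fibre, as points of the total space. -/
def assFib (s : S) : Set X := f.fiberι s '' AssSch.Ass ((Scheme.Modules.pullback (f.fiberι s)).obj F)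

/-- The associated points over the generic point. -/
def genAss [IrreducibleSpace S] : Set X := {x | x ∈ AssSch.Ass F ∧ f x = genericPoint S}

/-- A point of the fibre over `s` which is maximal among those in the closure of `x`. -/
def MinOver (s : S) (x y : X) : Prop := f y = s ∧ x ⤳ y ∧ ∀ z, f z = s → x ⤳ z → z ⤳ y → z = y

theorem primeAt_genericPoint [IsIntegral S] (W : S.affineOpens) (h : genericPoint S ∈ W.1) :
    primeAt W (genericPoint S) h = ⊥ := by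
  haveI : Nonempty W.1 := ⟨⟨_, h⟩⟩
  obtain ⟨x, hx, hx0⟩ := exists_point W (⊥ : Ideal Γ(S, W.1))
  exact le_bot_iff.mp (hx0 ▸ (specializes_iff_primeAt_le W hx h).1 (genericPoint_specializes x))

theorem exists_affine_good [IsIntegral S] [IsNoetherian S] [LocallyOfFiniteType f] [Coh.IsQCoh F]
    (hF : Coh.IsCoh F) {W : S.Opens} (hW : IsAffineOpen W) (hη : genericPoint S ∈ W) {V : X.Opens}
    (hV : IsAffineOpen V) (e : V ≤ f ⁻¹ᵁ W) :
    ∃ (a : Γ(S, W)) (d : X → ℕ), a ≠ 0 ∧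
      ∀ s (hs : s ∈ W), a ∉ primeAt (⟨W, hW⟩ : S.affineOpens) s hs →
        (∀ y ∈ V, f y = s → (y ∈ assFib f F s ↔ ∃ x ∈ genAss f F, MinOver f s x y)) ∧
        (∀ x ∈ genAss f F, x ∈ V → ∃ y ∈ V, MinOver f s x y) ∧
        (∀ x ∈ genAss f F, ∀ x' ∈ genAss f F, ∀ y ∈ V, MinOver f s x y → x' ⤳ y → x' ⤳ x) ∧
        (letI := (f.appLE W V e).hom.toAlgebra
        ∀ x ∈ genAss f F, ∀ (y : X) (hy : y ∈ V), MinOver f s x y →
          ∀ Q : Ideal ((hW.primeIdealOf ⟨s, hs⟩).asIdeal.Fiber Γ(X, V)), Q.IsPrime →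
            Q.comap (inc (hW.primeIdealOf ⟨s, hs⟩).asIdeal.ResidueField) =
              primeAt (⟨V, hV⟩ : X.affineOpens) y hy →
            ringKrullDim (((hW.primeIdealOf ⟨s, hs⟩).asIdeal.Fiber Γ(X, V)) ⧸ Q) = (d x : WithBot ℕ∞)) := by
  classical
  haveI := LocallyOfFiniteType.isLocallyNoetherian f
  let W' : S.affineOpens := ⟨W, hW⟩
  let V' : X.affineOpens := ⟨V, hV⟩
  haveI : Nonempty W := ⟨⟨_, hη⟩⟩
  haveI : IsNoetherianRing Γ(S, W) := IsLocallyNoetherian.component_noetherian W'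
  letI := (f.appLE W V e).hom.toAlgebra
  letI : Module Γ(S, W) Γ(F, V) := Module.compHom _ (f.appLE W V e).hom
  haveI : IsScalarTower Γ(S, W) Γ(X, V) Γ(F, V) := IsScalarTower.of_algebraMap_smul fun _ _ => rfl
  haveI : Algebra.FiniteType Γ(S, W) Γ(X, V) :=
    HasRingHomProperty.appLE (P := @LocallyOfFiniteType) f inferInstance W' V' e
  haveI : F.IsFiniteType := hF.2
  haveI : Module.Finite Γ(X, V) Γ(F, V) := QC70.finite_sections_of_isFiniteType F hV
  obtain ⟨a, d₀, ha, H⟩ := exists_generic_ass (A := Γ(S, W)) (B := Γ(X, V)) (M := Γ(F, V))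
  let d : X → ℕ := fun x => if hx : x ∈ V then d₀ (primeAt V' x hx) else 0
  refine ⟨a, d, ha, fun s hs has => ?_⟩
  let r : PrimeSpectrum Γ(S, W) := hW.primeIdealOf ⟨s, hs⟩
  let K := r.asIdeal.ResidueField
  have hK : algebraMap Γ(S, W) K a ≠ 0 := fun h => has (show a ∈ r.asIdeal from Ideal.algebraMap_residueField_eq_zero.mp h)
  obtain ⟨hAss, hgen⟩ := H K hK
  -- dictionary between the fibre ring and points over `s`
  have hcomap : ∀ (y : X) (hy : y ∈ V), f y = s → (primeAt V' y hy).comap (algebraMap Γ(S, W) Γ(X, V)) = r.asIdeal := by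
    intro y hy hys
    subst hys
    exact comap_primeAt f W' V' e y hy
  have hcomap' : ∀ Q : Ideal (r.asIdeal.Fiber Γ(X, V)), Q.IsPrime →
      (Q.comap (inc K)).comap (algebraMap Γ(S, W) Γ(X, V)) = r.asIdeal := by
    intro Q hQ
    exact congrArg PrimeSpectrum.asIdeal
      ((PrimeSpectrum.preimageOrderIsoFiber Γ(S, W) Γ(X, V) r).symm ⟨Q, hQ⟩).2
  have hpt : ∀ Q : Ideal (r.asIdeal.Fiber Γ(X, V)), Q.IsPrime →
      ∃ (y : X) (hy : y ∈ V), f y = s ∧ Q.comap (inc K) = primeAt V' y hy := by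
    intro Q hQ
    haveI : (Q.comap (inc K)).IsPrime := hQ.comap _
    obtain ⟨y, hy, h⟩ := exists_point V' (Q.comap (inc K))
    refine ⟨y, hy, primeAt_inj W' (e hy) hs ?_, h.symm⟩
    rw [← comap_primeAt f W' V' e y hy, h]
    exact hcomap' Q hQ
  have hof : ∀ (y : X) (hy : y ∈ V), f y = s →
      ∃ Q : Ideal (r.asIdeal.Fiber Γ(X, V)), Q.IsPrime ∧ Q.comap (inc K) = primeAt V' y hy := by
    intro y hy hys
    let q : PrimeSpectrum.comap (algebraMap Γ(S, W) Γ(X, V)) ⁻¹' {r} :=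
      ⟨hV.primeIdealOf ⟨y, hy⟩, PrimeSpectrum.ext (hcomap y hy hys)⟩
    let Q := PrimeSpectrum.preimageOrderIsoFiber Γ(S, W) Γ(X, V) r q
    exact ⟨Q.asIdeal, Q.isPrime, congrArg (fun w => (Subtype.val w).asIdeal)
      ((PrimeSpectrum.preimageOrderIsoFiber Γ(S, W) Γ(X, V) r).symm_apply_apply q)⟩
  have hmono : ∀ Q Q' : Ideal (r.asIdeal.Fiber Γ(X, V)), Q.IsPrime → Q'.IsPrime →
      Q.comap (inc K) ≤ Q'.comap (inc K) → Q ≤ Q' := fun Q Q' hQ hQ' h =>
    ((PrimeSpectrum.preimageOrderIsoFiber Γ(S, W) Γ(X, V) r).symm.le_iff_le (x := ⟨Q, hQ⟩) (y := ⟨Q', hQ'⟩)).mp h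
  have hmin : ∀ (x : X) (hx : x ∈ V) (Q : Ideal (r.asIdeal.Fiber Γ(X, V))) (y : X) (hy : y ∈ V), Q.IsPrime →
      Q.comap (inc K) = primeAt V' y hy →
      (Q ∈ ((primeAt V' x hx).map (inc K)).minimalPrimes ↔ MinOver f s x y) := by
    intro x hx Q y hy hQ hQy
    have hys : f y = s := by
      refine primeAt_inj W' (e hy) hs ?_
      rw [← comap_primeAt f W' V' e y hy, ← hQy]
      exact hcomap' Q hQ
    constructor
    · rintro ⟨⟨-, hle⟩, hminQ⟩
      refine ⟨hys, (specializes_iff_primeAt_le V' hy hx).2 (hQy ▸ Ideal.map_le_iff_le_comap.mp hle),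
        fun z hzs hxz hzy => ?_⟩
      have hz := mem_affine_of_specializes hzy hy
      obtain ⟨Q', hQ', hQz⟩ := hof z hz hzs
      have h1 : Q' ≤ Q := hmono Q' Q hQ' hQ (by rw [hQz, hQy]; exact (specializes_iff_primeAt_le V' hy hz).1 hzy)
      have h2 : Q ≤ Q' := hminQ ⟨hQ', Ideal.map_le_iff_le_comap.mpr (hQz ▸ (specializes_iff_primeAt_le V' hz hx).1 hxz)⟩ h1
      exact primeAt_inj V' hz hy (by rw [← hQz, ← hQy, le_antisymm h1 h2])
    · rintro ⟨-, hxy, hmz⟩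
      refine ⟨⟨hQ, Ideal.map_le_iff_le_comap.mpr (hQy ▸ (specializes_iff_primeAt_le V' hy hx).1 hxy)⟩, ?_⟩
      rintro Q' ⟨hQ', hle⟩ hQ'Q
      obtain ⟨z, hz, hzs, hQz⟩ := hpt Q' hQ'
      have hzy : z ⤳ y := (specializes_iff_primeAt_le V' hy hz).2 (hQz ▸ hQy ▸ Ideal.comap_mono hQ'Q)
      obtain rfl := hmz z hzs ((specializes_iff_primeAt_le V' hz hx).2 (hQz ▸ Ideal.map_le_iff_le_comap.mp hle)) hzy
      exact hmono Q Q' hQ hQ' (by rw [hQz, hQy])
  have hgenP : ∀ (x : X) (hx : x ∈ V), x ∈ genAss f F ↔ primeAt V' x hx ∈ associatedPrimes Γ(X, V) Γ(F, V) ∧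
      (primeAt V' x hx).comap (algebraMap Γ(S, W) Γ(X, V)) = ⊥ := by
    intro x hx
    refine and_congr (mem_ass_iff_associated F ‹_› V' x hx) ⟨fun h => ?_, fun h => ?_⟩
    · rw [← primeAt_genericPoint W' hη]
      refine (comap_primeAt f W' V' e x hx).trans ?_
      congr 1
    · refine primeAt_inj W' (e hx) hη ?_
      rw [primeAt_genericPoint W' hη, ← comap_primeAt f W' V' e x hx]
      exact h
  have hfib := fun (y : X) (hy : y ∈ V) => mem_ass_fiber_iff f F ‹_› hW hV e r s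
    (hW.fromSpec_primeIdealOf ⟨s, hs⟩) y hy
  refine ⟨fun y hy hys => ?_, fun x hx hxV => ?_, fun x hx x' hx' y hy hxy hx'y => ?_,
    fun x hx y hy hxy Q hQ hQy => ?_⟩
  · refine (hfib y hy).trans ⟨?_, ?_⟩
    · rintro ⟨Q, hQ, hQy⟩
      obtain ⟨P, hP, hPA, hQP⟩ := (hAss Q).mp hQ
      haveI := hP.isPrime
      obtain ⟨x, hx, rfl⟩ := exists_point V' P
      exact ⟨x, (hgenP x hx).mpr ⟨hP, hPA⟩, (hmin x hx Q y hy hQ.isPrime hQy).mp hQP⟩
    · rintro ⟨x, hx, hxy⟩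
      have hxV := mem_affine_of_specializes hxy.2.1 hy
      obtain ⟨Q, hQ, hQy⟩ := hof y hy hys
      obtain ⟨hP, hPA⟩ := (hgenP x hxV).mp hx
      exact ⟨Q, (hAss Q).mpr ⟨_, hP, hPA, (hmin x hxV Q y hy hQ hQy).mpr hxy⟩, hQy⟩
  · obtain ⟨hP, hPA⟩ := (hgenP x hxV).mp hx
    obtain ⟨Q, hQ⟩ := (hgen _ hP hPA).1
    obtain ⟨y, hy, -, hQy⟩ := hpt Q hQ.1.1
    exact ⟨y, hy, (hmin x hxV Q y hy hQ.1.1 hQy).mp hQ⟩
  · have hxV := mem_affine_of_specializes hxy.2.1 hy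
    have hx'V := mem_affine_of_specializes hx'y hy
    obtain ⟨hP, hPA⟩ := (hgenP x hxV).mp hx
    obtain ⟨hP', -⟩ := (hgenP x' hx'V).mp hx'
    obtain ⟨Q, hQ, hQy⟩ := hof y hy hxy.1
    by_contra hne
    refine (hgen _ hP hPA).2.2 _ hP' (fun h => hne ((specializes_iff_primeAt_le V' hxV hx'V).2 h)) Q
      ((hmin x hxV Q y hy hQ hQy).mpr hxy) ?_
    exact Ideal.map_le_iff_le_comap.mpr (hQy ▸ (specializes_iff_primeAt_le V' hy hx'V).1 hx'y)
  · have hxV := mem_affine_of_specializes hxy.2.1 hy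
    obtain ⟨hP, hPA⟩ := (hgenP x hxV).mp hx
    simp only [d, dif_pos hxV]
    exact (hgen _ hP hPA).2.1 Q ((hmin x hxV Q y hy hQ hQy).mpr hxy)

/-- Below a point over `s` in the closure of `x` there is a maximal one. -/
theorem exists_minOver [IsLocallyNoetherian X] {s : S} {x z : X} (hzs : f z = s) (hxz : x ⤳ z) :
    ∃ y, MinOver f s x y ∧ y ⤳ z := by
  classical
  obtain ⟨_, ⟨W, hW, rfl⟩, hzW, -⟩ := X.isBasis_affineOpens.exists_subset_of_mem_open (Set.mem_univ z) isOpen_univ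
  let V' : X.affineOpens := ⟨W, hW⟩
  haveI : IsNoetherianRing Γ(X, V'.1) := IsLocallyNoetherian.component_noetherian V'
  let T : Set ℕ∞ := {n | ∃ (y : X) (hy : y ∈ V'.1), f y = s ∧ x ⤳ y ∧ y ⤳ z ∧ (primeAt V' y hy).height = n}
  obtain ⟨n, ⟨y, hy, hys, hxy, hyz, hyn⟩, hmin⟩ := wellFounded_lt.has_min T
    ⟨_, z, hzW, hzs, hxz, specializes_rfl, rfl⟩
  refine ⟨y, ⟨hys, hxy, fun w hws hxw hwy => ?_⟩, hyz⟩
  have hw : w ∈ V'.1 := mem_affine_of_specializes hwy hy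
  by_contra hne
  haveI := primeAt_isPrime V' w hw
  haveI := primeAt_isPrime V' y hy
  refine hmin _ ⟨w, hw, hws, hxw, hwy.trans hyz, rfl⟩ (hyn ▸ Ideal.height_strict_mono_of_isPrime_of_isPrime ?_)
  exact lt_of_le_of_ne ((specializes_iff_primeAt_le V' hy hw).1 hwy) fun h => hne (primeAt_inj V' hw hy h)

/-- The associated points of the fibres near the generic point of the base. -/
theorem exists_good [IsIntegral S] [IsNoetherian S] [LocallyOfFiniteType f] [QuasiCompact f] [Coh.IsQCoh F]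
    (hF : Coh.IsCoh F) :
    ∃ U : S.Opens, genericPoint S ∈ U ∧ ∀ s ∈ U,
      (∀ y, f y = s → (y ∈ assFib f F s ↔ ∃ x ∈ genAss f F, MinOver f s x y)) ∧
      (∀ x ∈ genAss f F, ∃ y, MinOver f s x y) ∧
      (∀ x ∈ genAss f F, ∀ x' ∈ genAss f F, ∀ y, MinOver f s x y → x' ⤳ y → x' ⤳ x) := by
  classical
  obtain ⟨_, ⟨W, hW, rfl⟩, hη, -⟩ :=
    S.isBasis_affineOpens.exists_subset_of_mem_open (Set.mem_univ (genericPoint S)) isOpen_univ
  haveI : Nonempty W := ⟨⟨_, hη⟩⟩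
  have hc : IsCompact ((f ⁻¹ᵁ W : X.Opens) : Set X) :=
    QuasiCompact.isCompact_preimage (f := f) (W : Set S) W.2 hW.isCompact
  obtain ⟨T, hT⟩ := hc.elim_finite_subcover (fun V : {V : X.affineOpens // V.1 ≤ f ⁻¹ᵁ W} => (V.1.1 : Set X))
    (fun V => V.1.1.2) fun x hx => by
      obtain ⟨_, ⟨V, hV, rfl⟩, hxV, hle⟩ := X.isBasis_affineOpens.exists_subset_of_mem_open hx (f ⁻¹ᵁ W).2
      exact Set.mem_iUnion.mpr ⟨⟨⟨V, hV⟩, hle⟩, hxV⟩
  choose a d ha H using fun V : {V : X.affineOpens // V.1 ≤ f ⁻¹ᵁ W} =>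
    exists_affine_good f F hF hW hη V.1.2 V.2
  refine ⟨S.basicOpen (∏ V ∈ T, a V), ?_, fun s hs => ?_⟩
  · rw [mem_basicOpen_iff_notMem ⟨W, hW⟩ _ hη, primeAt_genericPoint ⟨W, hW⟩ hη, Ideal.mem_bot]
    exact Finset.prod_ne_zero_iff.mpr fun V _ => ha V
  · have hsW : s ∈ W := S.basicOpen_le _ hs
    rw [mem_basicOpen_iff_notMem ⟨W, hW⟩ _ hsW] at hs
    have H' := fun V (hV : V ∈ T) => H V s hsW fun h => hs (Ideal.mem_of_dvd _ (Finset.dvd_prod_of_mem a hV) h)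
    have hcov : ∀ y, f y ∈ W → ∃ V ∈ T, y ∈ V.1.1 := fun y hy => by simpa using hT hy
    refine ⟨fun y hys => ?_, fun x hx => ?_, fun x hx x' hx' y hxy hx'y => ?_⟩
    · obtain ⟨V, hV, hy⟩ := hcov y (hys.symm ▸ hsW)
      exact (H' V hV).1 y hy hys
    · obtain ⟨V, hV, hy⟩ := hcov x (hx.2.symm ▸ hη)
      obtain ⟨y, -, h⟩ := (H' V hV).2.1 x hx hy
      exact ⟨y, h⟩
    · obtain ⟨V, hV, hy⟩ := hcov y (hxy.1.symm ▸ hsW)
      exact (H' V hV).2.2.1 x hx x' hx' y hy hxy hx'y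

end Groth.Agent.FBase64.AssFibre
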