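import Groth.Agent.FBase64.AssFibre.DimCons
import Mathlib.RingTheory.Ideal.AssociatedPrime.Localization
import Mathlib.Algebra.Module.Torsion.Basic

/-! Torsion modules on schemes with integral local rings, and on the fibres. -/

set_option autoImplicit false
set_option linter.style.haveILetI false
set_option backward.isDefEq.respectTransparency.types false
universe u

open CategoryTheory CategoryTheory.Limits AlgebraicGeometry TopologicalSpace
open Groth.Agent.FBase64.AssSheaf Groth.Agent.FBase64.AssTensor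
open Groth.Agent.Div89 Groth.Agent.FBase64.RedField

namespace Groth.Agent.FBase64.AssFibre

/-- A point without generizations. -/
def IsMaxPt {Y : Type u} [TopologicalSpace Y] (z : Y) : Prop := ∀ w : Y, w ⤳ z → w = z

theorem ass_local {O M : Type u} [CommRing O] [IsDomain O] [IsNoetherianRing O] [AddCommGroup M] [Module O M] :
    ((⊥ : Ideal O) ∉ associatedPrimes O M ↔ Submodule.torsion O M = ⊤) ∧
      ((∀ q ∈ associatedPrimes O M, q = ⊥) ↔ Submodule.torsion O M = ⊥) := by
  refine ⟨⟨fun h => eq_top_iff.mpr fun m _ => ?_, ?_⟩, ⟨fun h => eq_bot_iff.mpr fun m hm => ?_, ?_⟩⟩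
  · by_contra hm
    have hc : (⊥ : Submodule O M).colon {m} = ⊥ := eq_bot_iff.mpr fun a ha => by
      by_contra ha0
      exact hm ((Submodule.mem_torsion_iff m).mpr
        ⟨⟨a, mem_nonZeroDivisors_of_ne_zero ha0⟩, by simpa [Submodule.mem_colon_singleton] using ha⟩)
    exact h (isAssociatedPrime_iff.mpr ⟨Ideal.isPrime_bot, m, hc.symm⟩)
  · intro htop hbot
    obtain ⟨-, m, hm⟩ := isAssociatedPrime_iff.mp hbot
    obtain ⟨⟨a, ha⟩, ham⟩ := (Submodule.mem_torsion_iff m).mp (htop.ge (Submodule.mem_top (x := m)))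
    exact nonZeroDivisors.ne_zero ha ((Submodule.mem_bot O).mp
      (hm.ge (Submodule.mem_colon_singleton.mpr ((Submodule.mem_bot O).mpr ham))))
  · by_contra hm0
    obtain ⟨⟨a, ha⟩, ham⟩ := (Submodule.mem_torsion_iff m).mp hm
    obtain ⟨q, hq, hle⟩ := exists_le_isAssociatedPrime_of_isNoetherianRing (R := O) m
      (fun e => hm0 ((Submodule.mem_bot O).mpr e))
    have := hle (Submodule.mem_colon_singleton.mpr ((Submodule.mem_bot O).mpr ham) :
      a ∈ (⊥ : Submodule O M).colon {m})
    rw [h q hq] at this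
    exact nonZeroDivisors.ne_zero ha ((Submodule.mem_bot O).mp this)
  · intro hbot q hq
    obtain ⟨hqp, m, hm⟩ := isAssociatedPrime_iff.mp hq
    refine eq_bot_iff.mpr fun a ha => ?_
    by_contra ha0
    have hm0 : m ∈ Submodule.torsion O M := (Submodule.mem_torsion_iff m).mpr
      ⟨⟨a, mem_nonZeroDivisors_of_ne_zero ha0⟩, by simpa [Submodule.mem_colon_singleton] using hm.le ha⟩
    rw [hbot, Submodule.mem_bot] at hm0
    exact hqp.ne_top (hm.trans (eq_top_iff.mpr fun b _ => Submodule.mem_colon_singleton.mpr (by simp [hm0])))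

variable {Y : Scheme.{u}} [IsLocallyNoetherian Y]

theorem exists_point_of_stalkPrime (F : Y.Modules) (hF : Coh.IsQCoh F) (z : Y) [IsDomain (Y.presheaf.stalk z)]
    (q : Ideal (Y.presheaf.stalk z)) [q.IsPrime] :
    ∃ y : Y, (y ∈ AssSch.Ass F ↔ q ∈ associatedPrimes (Y.presheaf.stalk z) (F.presheaf.stalk z)) ∧
      (q = IsLocalRing.maximalIdeal _ → y = z) ∧ (q = ⊥ ↔ IsMaxPt y) := by
  obtain ⟨U, hzU⟩ := exists_affine_mem z
  letI := stalkModule F U.1 z hzU
  letI := stalkAlg U.1 z hzU
  haveI := isLocalization_stalk U z hzU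
  haveI := isLocalizedModule_germLin F hF U z hzU
  haveI := isScalarTower_stalk F U.1 z hzU
  haveI : IsNoetherianRing Γ(Y, U.1) := IsLocallyNoetherian.component_noetherian U
  let R := Γ(Y, U.1)
  let O := Y.presheaf.stalk z
  have hle : ∀ q : Ideal O, q.IsPrime → q.comap (algebraMap R O) ≤ primeAt U z hzU := fun q hq =>
    le_trans (Ideal.comap_mono (IsLocalRing.le_maximalIdeal hq.ne_top))
      (IsLocalization.AtPrime.under_maximalIdeal O (primeAt U z hzU)).le
  have hinj : ∀ q q' : Ideal O, q.comap (algebraMap R O) ≤ q'.comap (algebraMap R O) → q ≤ q' :=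
    fun q q' h => by
      rw [← IsLocalization.map_under (primeAt U z hzU).primeCompl O q,
        ← IsLocalization.map_under (primeAt U z hzU).primeCompl O q']
      exact Ideal.map_mono h
  obtain ⟨y, hy, hyq⟩ := exists_point U (q.comap (algebraMap R O))
  refine ⟨y, ?_, fun hq => primeAt_inj U hy hzU ?_, fun hq w hwy => ?_, fun hmax => ?_⟩
  · rw [mem_ass_iff_associated F hF U y hy, hyq]
    exact Set.ext_iff.mp (Module.associatedPrimes.preimage_comap_associatedPrimes_eq_associatedPrimes_of_isLocalizedModule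
      (primeAt U z hzU).primeCompl O (germLin F U.1 z hzU)) q
  · rw [hyq, hq]
    exact IsLocalization.AtPrime.under_maximalIdeal O (primeAt U z hzU)
  · have hw : w ∈ U.1 := mem_affine_of_specializes hwy hy
    have hwle := (specializes_iff_primeAt_le U hy hw).1 hwy
    rw [hyq] at hwle
    have hd : Disjoint ((primeAt U z hzU).primeCompl : Set R) (primeAt U w hw : Set R) :=
      Set.disjoint_left.2 fun a ha hb => ha (hle q inferInstance (hwle hb))
    have hcm := IsLocalization.comap_map_of_isPrime_disjoint (primeAt U z hzU).primeCompl O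
      (I := primeAt U w hw) inferInstance hd
    refine primeAt_inj U hw hy ?_
    rw [hyq]
    refine le_antisymm hwle ?_
    rw [← hcm]
    exact Ideal.comap_mono (hq ▸ bot_le)
  · obtain ⟨w, hw, hwq⟩ := exists_point U ((⊥ : Ideal O).comap (algebraMap R O))
    have := hmax w ((specializes_iff_primeAt_le U hy hw).2 (by rw [hwq, hyq]; exact Ideal.comap_mono bot_le))
    subst this
    exact le_bot_iff.mp (hinj q ⊥ (by rw [← hyq, ← hwq]))

/-- Torsion and torsion-free modules, through associated points. -/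
theorem torsion_iff (F : Y.Modules) (hF : Coh.IsQCoh F) (hint : ∀ z : Y, IsDomain (Y.presheaf.stalk z)) :
    ((∀ z : Y, Submodule.torsion (Y.presheaf.stalk z) (F.presheaf.stalk z) = ⊤) ↔
      ∀ y ∈ AssSch.Ass F, ¬ IsMaxPt y) ∧
    ((∀ z : Y, Submodule.torsion (Y.presheaf.stalk z) (F.presheaf.stalk z) = ⊥) ↔
      ∀ y ∈ AssSch.Ass F, IsMaxPt y) := by
  have key : ∀ y ∈ AssSch.Ass F, IsLocalRing.maximalIdeal (Y.presheaf.stalk y) ∈
      associatedPrimes (Y.presheaf.stalk y) (F.presheaf.stalk y) := fun y hy => hy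
  refine ⟨⟨fun h y hy hmax => ?_, fun h z => ?_⟩, ⟨fun h y hy => ?_, fun h z => ?_⟩⟩
  · haveI := hint y
    obtain ⟨w, -, hwy, hw⟩ := exists_point_of_stalkPrime F hF y (IsLocalRing.maximalIdeal _)
    obtain rfl := hwy rfl
    exact ass_local.1.mpr (h w) (hw.mpr hmax ▸ key w hy)
  · haveI := hint z
    refine ass_local.1.mp fun hb => ?_
    obtain ⟨w, hw, -, hmax⟩ := exists_point_of_stalkPrime F hF z ⊥
    exact h w (hw.mpr hb) (hmax.mp rfl)
  · haveI := hint y
    obtain ⟨w, -, hwy, hw⟩ := exists_point_of_stalkPrime F hF y (IsLocalRing.maximalIdeal _)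
    obtain rfl := hwy rfl
    exact hw.mp (ass_local.2.mpr (h w) _ (key w hy))
  · haveI := hint z
    refine ass_local.2.mp fun q hq => ?_
    haveI : q.IsPrime := hq.1
    obtain ⟨w, hw, -, hmax⟩ := exists_point_of_stalkPrime F hF z q
    exact hmax.mpr (h w (hw.mpr hq))

/-- Maximal associated points of the structure sheaf. -/
theorem isMaxPt_iff (z : Y) : IsMaxPt z ↔ z ∈ maxAss (Coh.structureModule Y) := by
  constructor
  · intro h
    obtain ⟨v, hv, hvz⟩ := exists_ass_specializes_structure z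
    exact ⟨h v hvz ▸ hv, fun y _ hy => h y hy⟩
  · intro h w hw
    obtain ⟨v, hv, hvw⟩ := exists_ass_specializes_structure w
    have := h.2 v hv (hvw.trans hw)
    subst this
    exact (hw.antisymm hvw).eq

theorem isMaxPt_fieldExt {Y Y' T T' : Scheme.{u}} (g : Y ⟶ T) (g' : Y' ⟶ T') (e : Y' ⟶ Y) (h : T' ⟶ T)
    [IsIntegral T] [Subsingleton T] [IsIntegral T'] [Subsingleton T'] [LocallyOfFiniteType g]
    (hsq : IsPullback e g' g h) (F : Y.Modules) (F' : Y'.Modules) (hF : Coh.IsCoh F)
    (iso : F' ≅ (Scheme.Modules.pullback e).obj F) {z : Y'} (hz : z ∈ AssSch.Ass F') :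
    IsMaxPt z ↔ IsMaxPt (e z) := by
  obtain ⟨t⟩ : Nonempty T := inferInstance
  obtain ⟨t'⟩ : Nonempty T' := inferInstance
  haveI := ConsProp93.isIso_fromSpecResidueField T t
  haveI := ConsProp93.isIso_fromSpecResidueField T' t'
  haveI : IsLocallyNoetherian T := isLocallyNoetherian_of_isOpenImmersion (inv (T.fromSpecResidueField t))
  haveI : IsLocallyNoetherian T' := isLocallyNoetherian_of_isOpenImmersion (inv (T'.fromSpecResidueField t'))
  haveI : LocallyOfFiniteType g' := MorphismProperty.of_isPullback hsq ‹_›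
  haveI := LocallyOfFiniteType.isLocallyNoetherian g
  haveI := LocallyOfFiniteType.isLocallyNoetherian g'
  haveI : Flat h := by
    let φ := Spec.preimage (T'.fromSpecResidueField t' ≫ h ≫ inv (T.fromSpecResidueField t))
    have hφ : h = inv (T'.fromSpecResidueField t') ≫ Spec.map φ ≫ T.fromSpecResidueField t := by
      simp [φ, Spec.map_preimage]
    haveI : Flat (Spec.map φ) := by
      rw [HasRingHomProperty.Spec_iff (P := @Flat)]
      letI : Algebra (T.residueField t) (T'.residueField t') := φ.hom.toAlgebra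
      exact RingHom.flat_algebraMap_iff.mpr inferInstance
    rw [hφ]; infer_instance
  haveI : Flat e := MorphismProperty.of_isPullback hsq.flip ‹_›
  constructor
  · intro hmax w hw
    obtain ⟨v, hv, rfl⟩ := Flat.generalizingMap (f := e) hw
    rw [hmax v hv]
  · intro hmax
    have h0 := (isMaxPt_iff (e z)).mp hmax
    obtain ⟨-, -, h3⟩ := ass_fieldExt g g' e h hsq (Coh.structureModule Y) (Coh.structureModule Y')
      (isCoh_structure Y) (PicLoc.pullbackStructureIso e).symm
    refine (isMaxPt_iff z).mpr ((h3 z ?_).mpr h0)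
    rw [ass_iso iso, mem_ass_pullback_flat e F hF.1] at hz
    rw [ass_iso (PicLoc.pullbackStructureIso e).symm, mem_ass_pullback_flat e _ (isCoh_structure Y).1]
    exact ⟨h0.1, hz.2⟩

/-- Associated points are all maximal, or none is. -/
theorem isConsMod_assMax (b : Prop) :
    ConsProp.IsConsMod.{u} (fun Y _ _ F => ∀ y ∈ AssSch.Ass (X := Y) F, (IsMaxPt y ↔ b)) := by
  refine ⟨?_, ?_⟩
  · intro Y Y' T T' g g' e h _ _ _ _ _ _ hsq F F' hF iso
    obtain ⟨h1, h2, -⟩ := ass_fieldExt g g' e h hsq F F' hF iso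
    constructor
    · intro hall z hz
      rw [isMaxPt_fieldExt g g' e h hsq F F' hF iso hz]
      exact hall _ (h1 z hz).1
    · intro hall y hy
      obtain ⟨z, hz, rfl⟩ := h2 y hy
      rw [← isMaxPt_fieldExt g g' e h hsq F F' hF iso hz]
      exact hall z hz
  intro X S f _ _ _ _ F hF
  haveI := LocallyOfFiniteType.isLocallyNoetherian f
  let O := Coh.structureModule X
  obtain ⟨U₁, hU₁, -, h₁⟩ := exists_nhd_ass f F hF
  obtain ⟨U₂, hU₂, hη, h₂⟩ := exists_nhd_ass f O (isCoh_structure X)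
  obtain ⟨U₃, hU₃, h₃⟩ := exists_nhd_fdeg f F hF
  obtain ⟨U₄, hU₄, h₄⟩ := exists_nhd_fdeg f O (isCoh_structure X)
  have hO : ∀ s : S, AssSch.Ass ((Scheme.Modules.pullback (f.fiberι s)).obj O) =
      AssSch.Ass (Coh.structureModule (f.fiber s)) := fun s => ass_iso (PicLoc.pullbackStructureIso (f.fiberι s))
  have hgen : ∀ x : X, f x = genericPoint S → IsMaxPt x → x ∈ genAss f O := fun x hx hmax =>
    ⟨((isMaxPt_iff x).mp hmax).1, hx⟩
  let U : S.Opens := (U₁ ⊓ U₂) ⊓ (U₃ ⊓ U₄)
  have hU : genericPoint S ∈ U := ⟨⟨hU₁, hU₂⟩, hU₃, hU₄⟩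
  have key : ∀ s ∈ U, ∀ x ∈ genAss f F, ∀ z : f.fiber s, MinOver f s x (f.fiberι s z) →
      (IsMaxPt z ↔ IsMaxPt x) := by
    intro s hs x hx z hxz
    constructor
    · intro hz
      by_contra hxm
      obtain ⟨w, hw, hwx⟩ : ∃ w, w ⤳ x ∧ w ≠ x := by simpa [IsMaxPt] using hxm
      obtain ⟨v, hv, hvw⟩ := exists_ass_specializes_structure w
      have hvx : v ⤳ x := hvw.trans hw
      have hne : v ≠ x := fun e => hwx (hw.antisymm (e ▸ hvw)).eq
      have hfv : f v = genericPoint S :=
        ((hx.2 ▸ hvx.map f.continuous).antisymm (genericPoint_specializes _)).eq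
      obtain ⟨y, hy, hyz⟩ := exists_minOver f hxz.1 (hvx.trans hxz.2.1)
      obtain ⟨z', rfl⟩ := exists_fiber_pt f hy.1
      have := hz z' ((fiberι_specializes f s).mp hyz)
      subst this
      have e1 := h₄ s hs.2.2 v ⟨hv, hfv⟩ _ hy
      have e2 := h₃ s hs.2.1 x hx _ hxz
      have hlt := E4O.fdeg_lt (f := f) hvx (hfv.trans hx.2.symm) hne
      omega
    · intro hxm
      obtain ⟨hA, -, -, hmx⟩ := h₂ s hs.1.2
      have hxO := hgen x hx.2 hxm
      intro w hw
      obtain ⟨v, hv, hvw⟩ := exists_ass_specializes_structure w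
      have := (hmx x hxO _ hxz).mpr (fun x' _ hsp => hxm x' hsp) (f.fiberι s v)
        ⟨v, (hO s).ge hv, rfl⟩ ((fiberι_specializes f s).mpr (hvw.trans hw))
      have hvz := (f.fiberι s).isEmbedding.injective this
      exact (hw.antisymm (hvz ▸ hvw)).eq
  by_cases hall : ∀ x ∈ genAss f F, (IsMaxPt x ↔ b)
  · refine .inl ⟨_, interior_maximal (fun s hs z hz => ?_) U.2 hU⟩
    obtain ⟨x, hx, hxz⟩ := ((h₁ s hs.1.1).1 _ (fiberι_over f s z)).mp ((mem_assFib_iff f F s z).mpr hz)
    exact (key s hs x hx z hxz).trans (hall x hx)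
  · push Not at hall
    obtain ⟨x, hx, hxb⟩ := hall
    refine .inr ⟨_, interior_maximal (fun s hs h => ?_) U.2 hU⟩
    obtain ⟨y, hy⟩ := (h₁ s hs.1.1).2.1 x hx
    obtain ⟨z, rfl⟩ := exists_fiber_pt f hy.1
    have hz : z ∈ AssSch.Ass ((Scheme.Modules.pullback (f.fiberι s)).obj F) :=
      (mem_assFib_iff f F s z).mp (((h₁ s hs.1.1).1 _ hy.1).mpr ⟨x, hx, hy⟩)
    have h' := (key s hs x hx z hy).symm.trans (h z hz)
    tauto

end Groth.Agent.FBase64.AssFibre
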